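import Groth.Agent.CohH33.ModelApps
import Groth.Agent.QCoh.FlatExchange
import Groth.Agent.ConsPropLib.NoethApprox
import Groth.Agent.FlatFun4.FlatLim
import Groth.Agent.FlatFun4.LimPres
import Groth.Agent.FlatFun4.FPPull
import Groth.Agent.LimitsH94.FPColim
import Groth.Agent.GrFlat5.FlatAtIso
import Groth.Agent.S0591
import Groth.Agent.S2074
import Groth.Agent.S4788

/-!
# Models for proper flat families of finite presentation over an arbitrary base
-/

universe u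

set_option backward.isDefEq.respectTransparency.types false
set_option maxHeartbeats 1000000
set_option linter.style.haveILetI false

open CategoryTheory AlgebraicGeometry AlgebraicGeometry.Scheme.Modules
open TopologicalSpace Opposite
open Groth.Agent.QCoh
open CategoryTheory.Limits (Cone IsLimit)
open scoped TensorProduct

namespace Groth.Agent.CohH33

variable {I : Type u} [SmallCategory I] [IsCofiltered I] (D : I ⥤ Scheme.{u}) (c : Cone D) (hc : IsLimit c)

/-- The system above a stage, over that stage. -/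
noncomputable def overDiag (j : I) : Over j ⥤ Over (D.obj j) where
  obj a := Over.mk (D.map a.hom)
  map m := Over.homMk (D.map m.left) (by
    show D.map m.left ≫ D.map _ = D.map _
    rw [← D.map_comp, Over.w])
  map_id a := by ext1; simp
  map_comp m n := by ext1; simp

/-- The limit over that stage. -/
noncomputable def overCone (j : I) : Cone (overDiag D j) where
  pt := Over.mk (c.π.app j)
  π :=
    { app := fun a => Over.homMk (c.π.app a.left) (by
        show c.π.app a.left ≫ D.map a.hom = c.π.app j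
        exact c.w a.hom)
      naturality := fun a b m => by
        ext1
        show 𝟙 _ ≫ c.π.app b.left = c.π.app a.left ≫ D.map m.left
        rw [Category.id_comp, c.w] }

/-- It is a limit. -/
noncomputable def isLimitOverCone (j : I) : IsLimit ((Over.forget (D.obj j)).mapCone (overCone D c j)) :=
  ((Functor.Initial.isLimitWhiskerEquiv (Over.forget j) c).symm hc).ofIsoLimit
    (Cone.ext (Iso.refl _) fun a => (Category.id_comp _).symm)

variable [∀ i, IsAffine (D.obj i)]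

include hc in
/-- A proper morphism of finite presentation to the limit comes from a proper one at a stage. -/
theorem exists_stage_proper [IsAffine c.pt] {U : Scheme.{u}} (π : U ⟶ c.pt) [IsProper π]
    [LocallyOfFinitePresentation π] :
    ∃ (j : I) (X₁ : Scheme.{u}) (f₁ : X₁ ⟶ D.obj j) (g₁ : U ⟶ X₁),
      IsProper f₁ ∧ LocallyOfFinitePresentation f₁ ∧ IsPullback g₁ π f₁ (c.π.app j) := by
  haveI : ∀ (a b : I) (m : a ⟶ b), IsAffineHom (D.map m) := fun a b m => isAffineHom_of_isAffine _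
  obtain ⟨i, Xi, fi, g, hfp, hqc, hqs, hsq⟩ := Groth.Agent.S0591.result D c hc U π
  haveI := hfp; haveI := hqc; haveI := hqs
  haveI : CompactSpace Xi := QuasiCompact.compactSpace_of_compactSpace fi
  haveI : QuasiSeparatedSpace Xi := quasiSeparatedSpace_of_quasiSeparated fi
  obtain ⟨j, φ, Xj, Yj, fj, gj, pY, pX, h1, h2, h3⟩ := Groth.Agent.S2074.result D c hc i fi (𝟙 (D.obj i))
    π (𝟙 c.pt) (c.π.app i) g IsPullback.of_id_snd hsq
  haveI : IsIso gj := h1.isIso_snd_of_isIso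
  haveI := h3
  have h5 : IsPullback pX (fj ≫ gj) fi (D.map φ) := by
    simpa using h2.paste_vert h1
  haveI : LocallyOfFinitePresentation (fj ≫ gj) :=
    MorphismProperty.of_isPullback h5 (inferInstance : LocallyOfFinitePresentation fi)
  let g₁ : U ⟶ Xj := h5.lift g (π ≫ c.π.app j) (by rw [Category.assoc, c.w, hsq.w])
  refine ⟨j, Xj, fj ≫ gj, g₁, inferInstance, inferInstance, IsPullback.of_right ?_ (h5.lift_snd _ _ _) h5⟩
  rw [h5.lift_fst, c.w]
  exact hsq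

theorem isAffine_overDiag (j : I) (a : Over j) : IsAffine ((overDiag D j).obj a).left :=
  inferInstanceAs (IsAffine (D.obj a.left))

include hc in
/-- A module of finite presentation over the limit comes from a stage. -/
theorem exists_stage_module [IsAffine c.pt] {U : Scheme.{u}} {π : U ⟶ c.pt} {j : I} {X₁ : Scheme.{u}}
    {f₁ : X₁ ⟶ D.obj j} {g₁ : U ⟶ X₁} [IsProper f₁] [LocallyOfFinitePresentation f₁]
    (hsq : IsPullback g₁ π f₁ (c.π.app j)) {G : U.Modules} (hG : CohB1.IsFP G) :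
    ∃ (k : I) (X₂ : Scheme.{u}) (f₂ : X₂ ⟶ D.obj k) (g₂ : U ⟶ X₂) (F₂ : X₂.Modules),
      IsProper f₂ ∧ LocallyOfFinitePresentation f₂ ∧ IsPullback g₂ π f₂ (c.π.app k) ∧ CohB1.IsFP F₂ ∧
        Nonempty ((pullback g₂).obj F₂ ≅ G) := by
  let D₂ := overDiag D j
  let c₂ := overCone D c j
  have hD₂ := isAffine_overDiag D j
  let e : U ≅ PicF.XT f₁ c₂.pt := hsq.isoPullback
  have he : e.hom ≫ PicF.XTproj f₁ c₂.pt = π := hsq.isoPullback_hom_snd
  let G' := (pullback e.inv).obj G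
  haveI : Coh.IsQCoh G' := isQCoh_of_isFP (FlatFun4.isFP_pullback _ hG)
  haveI : ∀ (a b : Over j) (m : a ⟶ b), IsAffineHom ((FlatFun4.XTdiag f₁ D₂).map m) := fun a b m =>
    FlatFun4.isAffineHom_XTdiag_map f₁ D₂ hD₂ m
  let a₀ : Over j := Over.mk (𝟙 j)
  haveI : CompactSpace ((FlatFun4.XTdiag f₁ D₂).obj a₀) := FlatFun4.compactSpace_XTdiag_obj f₁ D₂ hD₂ a₀
  haveI : QuasiSeparatedSpace ((FlatFun4.XTdiag f₁ D₂).obj a₀) := by
    haveI := hD₂ a₀
    haveI : IsProper (PicF.XTproj f₁ (D₂.obj a₀)) := MorphismProperty.pullback_snd f₁ _ inferInstance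
    have h := quasiSeparatedSpace_of_quasiSeparated (PicF.XTproj f₁ (D₂.obj a₀))
    exact h
  haveI : Coh.IsQCoh (X := (FlatFun4.XTcone f₁ D₂ c₂).pt) G' := ‹Coh.IsQCoh G'›
  obtain ⟨a, -, F₂, -, hF₂, ⟨i⟩⟩ := Groth.Agent.S4788.result (FlatFun4.XTdiag f₁ D₂) (FlatFun4.XTcone f₁ D₂ c₂)
    (FlatFun4.isLimit_XTcone f₁ D₂ c₂ (isLimitOverCone D c hc j)) a₀ G' (FlatFun4.isFP_pullback _ hG)
  refine ⟨a.left, PicF.XT f₁ (D₂.obj a), PicF.XTproj f₁ (D₂.obj a), e.hom ≫ PicF.XTmap f₁ (c₂.π.app a), F₂,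
    MorphismProperty.pullback_snd f₁ _ inferInstance, MorphismProperty.pullback_snd f₁ _ inferInstance, ?_,
    hF₂, ⟨?_⟩⟩
  · exact IsPullback.of_iso (HilbDLib.isPullback_XTmap f₁ (c₂.π.app a)) e.symm (Iso.refl _) (Iso.refl _) (Iso.refl _)
      (by simp) (by simp [← he]; rfl) (Category.comp_id _) (by simp; rfl)
  · exact ((pullbackComp e.hom (PicF.XTmap f₁ (c₂.π.app a))).app F₂).symm ≪≫ (pullback e.hom).mapIso i ≪≫
      (pullbackComp e.hom e.inv).app G ≪≫ (pullbackCongr e.hom_inv_id).app G ≪≫ (pullbackId U).app G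

include hc in
/-- Flatness over the limit comes from a stage. -/
theorem exists_stage_flat [IsAffine c.pt] {U : Scheme.{u}} {π : U ⟶ c.pt} {k : I} {X₂ : Scheme.{u}}
    {f₂ : X₂ ⟶ D.obj k} {g₂ : U ⟶ X₂} [IsProper f₂] [LocallyOfFinitePresentation f₂]
    (hsq : IsPullback g₂ π f₂ (c.π.app k)) {G : U.Modules} (hGflat : FlatMod.IsFlatOver π G) {F₂ : X₂.Modules}
    (hF₂ : CohB1.IsFP F₂) (i : (pullback g₂).obj F₂ ≅ G) :
    ∃ (l : I) (X₃ : Scheme.{u}) (f₃ : X₃ ⟶ D.obj l) (g₃ : U ⟶ X₃) (F₃ : X₃.Modules),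
      IsProper f₃ ∧ IsPullback g₃ π f₃ (c.π.app l) ∧ CohB1.IsFP F₃ ∧ FlatMod.IsFlatOver f₃ F₃ ∧
        Nonempty ((pullback g₃).obj F₃ ≅ G) := by
  let D₃ := overDiag D k
  let c₃ := overCone D c k
  have hD₃ := isAffine_overDiag D k
  let e : U ≅ PicF.XT f₂ c₃.pt := hsq.isoPullback
  have he : e.hom ≫ PicF.XTproj f₂ c₃.pt = π := hsq.isoPullback_hom_snd
  have hef : e.hom ≫ Limits.pullback.fst f₂ c₃.pt.hom = g₂ := hsq.isoPullback_hom_fst
  haveI : IsAffine c₃.pt.left := inferInstanceAs (IsAffine c.pt)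
  let iT : FGA.ET f₂ F₂ c₃.pt ≅ (pullback e.inv).obj G :=
    (pullbackCongr (show Limits.pullback.fst f₂ c₃.pt.hom = e.inv ≫ g₂ by rw [← hef, Iso.inv_hom_id_assoc])).app F₂ ≪≫
      ((pullbackComp e.inv g₂).app F₂).symm ≪≫ (pullback e.inv).mapIso i
  haveI : IsIso (X := c₃.pt.left) (Y := c.pt) (𝟙 c₃.pt.left) :=
    @IsIso.id Scheme.{u} _ c₃.pt.left
  have hfl : FlatMod.IsFlatOver (PicF.XTproj f₂ c₃.pt) (FGA.ET f₂ F₂ c₃.pt) := fun x =>
    GrFlat5.isFlatOverAt_of_iso _ iT.symm x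
      (MorLib.FlatBC.isFlatOverAt_baseChange π (PicF.XTproj f₂ c₃.pt) e.inv (𝟙 c₃.pt.left)
        (IsPullback.of_horiz_isIso ⟨e.inv_comp_eq.2 (he.symm.trans
          (congrArg (e.hom ≫ ·) (Category.comp_id (PicF.XTproj f₂ c₃.pt)).symm))⟩)
        G x (hGflat _))
  obtain ⟨b, hb⟩ := FlatFun4.exists_stage_isFlatOver f₂ D₃ c₃ (isLimitOverCone D c hc k) hD₃ inferInstance
    F₂ hF₂ hfl
  refine ⟨b.left, PicF.XT f₂ (D₃.obj b), PicF.XTproj f₂ (D₃.obj b), e.hom ≫ PicF.XTmap f₂ (c₃.π.app b),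
    FGA.ET f₂ F₂ (D₃.obj b), MorphismProperty.pullback_snd f₂ _ inferInstance, ?_,
    FlatFun4.isFP_pullback _ hF₂, hb, ⟨?_⟩⟩
  · exact IsPullback.of_iso (HilbDLib.isPullback_XTmap f₂ (c₃.π.app b)) e.symm (Iso.refl _) (Iso.refl _) (Iso.refl _)
      (by simp) (by simp [← he]; rfl) (Category.comp_id _) (by simp; rfl)
  · exact ((pullbackComp e.hom (PicF.XTmap f₂ (c₃.π.app b))).app (FGA.ET f₂ F₂ (D₃.obj b))).symm ≪≫
      (pullback e.hom).mapIso (FGA.ETiso f₂ F₂ (c₃.π.app b) ≪≫ iT) ≪≫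
      (pullbackComp e.hom e.inv).app G ≪≫ (pullbackCongr e.hom_inv_id).app G ≪≫ (pullbackId U).app G

/-- A model over an affine open from a Noetherian stage. -/
theorem exists_hasModel_of_stage {X S : Scheme.{u}} (f : X ⟶ S) [IsProper f] (F : X.Modules) {V : S.Opens}
    (hV : IsAffineOpen V) (R : CommRingCat.{u}) [IsNoetherianRing R] (ψ : R ⟶ Γ(S, V)) {X₃ : Scheme.{u}}
    (f₃ : X₃ ⟶ Spec R) [h₃p : IsProper f₃] (g₃ : (f ⁻¹ᵁ V : Scheme.{u}) ⟶ X₃)
    (hsq : IsPullback g₃ (overSpec f hV) f₃ (Spec.map ψ)) {F₃ : X₃.Modules} (hF₃ : CohB1.IsFP F₃)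
    (hfl₃ : FlatMod.IsFlatOver f₃ F₃) (i₃ : (pullback g₃).obj F₃ ≅ F.restrict (f ⁻¹ᵁ V).ι) :
    ∃ P : ChainComplex (ModuleCat.{u} Γ(S, V)) ℤ, HasModel f F hV P := by
  haveI : IsNoetherian (Spec R) := isNoetherian_Spec.2 inferInstance
  letI : X₃.Over (Spec (CommRingCat.of R)) := ⟨f₃⟩
  haveI : IsProper (X₃ ↘ Spec (CommRingCat.of R)) := h₃p
  haveI : LocallyOfFiniteType f₃ := inferInstance
  haveI : IsLocallyNoetherian X₃ := LocallyOfFiniteType.isLocallyNoetherian f₃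
  obtain ⟨P, hfin, hfree, hbd, hiso, hpos⟩ := exists_chain_model F₃ (isCoh_iff_isFP.2 hF₃) hfl₃
  refine ⟨CohIII.bcCx ψ.hom P, (IsModelCx.mk hfin hfree hbd hpos).bc ψ.hom, fun p => ?_⟩
  letI : (f ⁻¹ᵁ V : Scheme.{u}).Over (Spec (CommRingCat.of Γ(S, V))) := ⟨overSpec f hV⟩
  haveI : CompactSpace X₃ := QuasiCompact.compactSpace_of_compactSpace f₃
  haveI : X₃.IsSeparated := ⟨by
    rw [← Limits.terminal.comp_from f₃]
    infer_instance⟩
  obtain ⟨e⟩ := hiso p
  obtain ⟨e₁⟩ := nonempty_HAb_bc_iso (A := R) (B := Γ(S, V)) ψ.hom g₃ hsq (isQCoh_of_isFP hF₃) p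
  obtain ⟨e₂⟩ := nonempty_bcT_iso P ψ.hom (-(p : ℤ))
  let eT : CohIII.tensorAFunctor Γ(S, V) ((pullback g₃).obj F₃) ≅ CohIII.tensorAFunctor Γ(S, V) (F.restrict (f ⁻¹ᵁ V).ι) :=
    Functor.isoWhiskerLeft _ (Functor.isoWhiskerLeft _ (Functor.isoWhiskerLeft DCoh.toP
      (Functor.isoWhiskerRight ((MonoidalCategory.tensoringRight (CohB1.PMod _)).mapIso
        (DCoh.toP.mapIso i₃)) DCoh.shP)))
  exact ⟨e₂ ≪≫ Functor.isoWhiskerLeft _ e ≪≫ e₁.symm ≪≫ Functor.isoWhiskerRight eT _⟩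

/-- A proper flat family of finite presentation has models over every affine open. -/
theorem exists_hasModel {X S : Scheme.{u}} (f : X ⟶ S) [IsProper f] [LocallyOfFinitePresentation f]
    (F : X.Modules) (hfp : CohB1.IsFP F) (hfl : FlatMod.IsFlatOver f F) {V : S.Opens} (hV : IsAffineOpen V) :
    ∃ P : ChainComplex (ModuleCat.{u} Γ(S, V)) ℤ, HasModel f F hV P := by
  let U : X.Opens := f ⁻¹ᵁ V
  let A : CommRingCat.{u} := Γ(S, V)
  let D := ConsPropLib.NoethApprox.diagram A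
  let c := ConsPropLib.NoethApprox.cone A
  let hc : IsLimit c := ConsPropLib.NoethApprox.isLimit A
  haveI : IsAffine c.pt := isAffine_Spec A
  let π : (U : Scheme.{u}) ⟶ c.pt := overSpec f hV
  haveI : IsProper π := by
    show IsProper ((f ∣_ V) ≫ hV.isoSpec.hom)
    infer_instance
  haveI : LocallyOfFinitePresentation π := by
    show LocallyOfFinitePresentation ((f ∣_ V) ≫ hV.isoSpec.hom)
    haveI : LocallyOfFinitePresentation (f ∣_ V) := IsZariskiLocalAtTarget.restrict ‹_› V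
    infer_instance
  have hF : Coh.IsQCoh F := isQCoh_of_isFP hfp
  let G := F.restrict U.ι
  let eR : (pullback U.ι).obj F ≅ G := ((restrictFunctorIsoPullback U.ι).app F).symm
  have hG : CohB1.IsFP G := LimitsH94.FPColim.isFP_of_iso eR (FlatFun4.isFP_pullback _ hfp)
  have hGfl : FlatMod.IsFlatOver π G :=
    isFlatOver_of_iso (f := π) eR (isQCoh_pullback _ hF)
      fun x => MorLib.FlatBC.isFlatOverAt_baseChange f π U.ι hV.fromSpec (isPullback_overSpec (f := f) hV) F x (hfl _)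
  obtain ⟨j, X₁, f₁, g₁, h₁p, h₁f, hsq₁⟩ := exists_stage_proper D c hc π
  haveI := h₁p; haveI := h₁f
  obtain ⟨k, X₂, f₂, g₂, F₂, h₂p, h₂f, hsq₂, hF₂, ⟨i₂⟩⟩ := exists_stage_module D c hc hsq₁ hG
  haveI := h₂p; haveI := h₂f
  obtain ⟨l, X₃, f₃, g₃, F₃, h₃p, hsq₃, hF₃, hfl₃, ⟨i₃⟩⟩ := exists_stage_flat D c hc hsq₂ hGfl hF₂ i₂
  haveI := h₃p
  haveI : IsNoetherian (D.obj l) := ConsPropLib.NoethApprox.isNoetherian_obj A l
  haveI : IsNoetherianRing ((ConsPropLib.NoethApprox.rings A).obj l.unop) := (isNoetherian_Spec).1 ‹IsNoetherian (D.obj l)›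
  exact exists_hasModel_of_stage (h₃p := h₃p) f F hV ((ConsPropLib.NoethApprox.rings A).obj l.unop)
    ((ConsPropLib.NoethApprox.cocone A).ι.app l.unop) f₃ g₃ hsq₃ hF₃ hfl₃ i₃

/-- Models exist for proper flat families of finite presentation. -/
theorem hasModels {X S : Scheme.{u}} (f : X ⟶ S) [IsProper f] [LocallyOfFinitePresentation f]
    (F : X.Modules) (hfp : CohB1.IsFP F) (hfl : FlatMod.IsFlatOver f F) : HasModels f F := fun y => by
  obtain ⟨_, ⟨V, hV, rfl⟩, hy, -⟩ :=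
    S.isBasis_affineOpens.exists_subset_of_mem_open (Set.mem_univ y) isOpen_univ
  obtain ⟨P, hP⟩ := exists_hasModel f F hfp hfl hV
  exact ⟨V, hV, P, hy, hP⟩

end Groth.Agent.CohH33
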