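import Groth.Agent.FlatCxLib.LinearFunctor
import Groth.Agent.QCoh.Support
import Mathlib.RingTheory.IsTensorProduct

/-!
# Algebra for cohomology and base change
-/

universe u

set_option backward.isDefEq.respectTransparency false
set_option backward.isDefEq.respectTransparency.types false

open CategoryTheory CategoryTheory.Limits AlgebraicGeometry TopologicalSpace Opposite
open scoped TensorProduct

namespace Groth.Agent.CohH33

section

variable {A B : Type u} [CommRing A] [CommRing B] [Algebra A B] (T : ModuleCat.{u} A ⥤ ModuleCat.{u} A)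
  [T.Additive] [T.Linear A] {M N : Type u} [AddCommGroup M] [Module A M] [AddCommGroup N] [Module A N]
  [Module B N] [IsScalarTower A B N] {P : Type u} [AddCommGroup P]

/-- A map out of a base change is bijective or surjective according to the comparison of a linear functor. -/
theorem tM_comparison {l : M →ₗ[A] N} (hl : IsBaseChange B l)
    (ε₀ : T.obj (ModuleCat.of A A) ≃ₗ[A] M) (ψ : N →+ P) (Λ : T.obj (ModuleCat.of A B) ≃+ P)
    (h : ∀ (y : T.obj (ModuleCat.of A A)) (b : B),
      ψ (b • l (ε₀ y)) = Λ (FlatCxLib.tM T (ModuleCat.of A B) (y ⊗ₜ[A] b))) :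
    (Function.Bijective ψ ↔ Function.Bijective (FlatCxLib.tM T (ModuleCat.of A B))) ∧
      (Function.Surjective ψ ↔ Function.Surjective (FlatCxLib.tM T (ModuleCat.of A B))) := by
  let Θ : T.obj (ModuleCat.of A A) ⊗[A] B ≃ₗ[A] N :=
    ((TensorProduct.congr ε₀ (LinearEquiv.refl A B)).trans (TensorProduct.comm A M B)).trans
      (hl.equiv.restrictScalars A)
  have hΘ : ∀ y b, Θ (y ⊗ₜ[A] b) = b • l (ε₀ y) := fun y b => hl.equiv_tmul b (ε₀ y)
  have key : ∀ z, ψ (Θ z) = Λ (FlatCxLib.tM T (ModuleCat.of A B) z) := fun z => by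
    induction z using TensorProduct.induction_on with
    | zero => simp only [map_zero]
    | add a b ha hb => simp only [map_add, ha, hb]
    | tmul y b => rw [hΘ]; exact h y b
  have e : (ψ : N → P) = fun n => Λ (FlatCxLib.tM T (ModuleCat.of A B) (Θ.symm n)) := funext fun n => by
    rw [← key, Θ.apply_symm_apply]
  rw [e]
  exact ⟨⟨fun hb => (Λ.bijective.of_comp_iff' _).1 ((Function.Bijective.of_comp_iff _ Θ.symm.bijective).1 hb),
      fun hb => Λ.bijective.comp (hb.comp Θ.symm.bijective)⟩,
    ⟨fun hs y => by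
      obtain ⟨n, hn⟩ := hs (Λ y)
      exact ⟨Θ.symm n, Λ.injective hn⟩, fun hs => Λ.surjective.comp (hs.comp Θ.symm.surjective)⟩⟩

end

/-- A morphism of quasi-coherent modules bijective on an affine cover is an isomorphism. -/
theorem isIso_of_affine_cover {X : Scheme.{u}} {M N : X.Modules} (hM : Coh.IsQCoh M) (hN : Coh.IsQCoh N)
    (φ : M ⟶ N) {ι : Type*} (U : ι → X.Opens) (haff : ∀ i, IsAffineOpen (U i))
    (hU : ∀ x : X, ∃ i, x ∈ U i) (h : ∀ i, Function.Bijective (φ.app (U i))) : IsIso φ := by
  have hk := QCoh.isZero_of_cover (QCoh.isQCoh_kernel hM hN φ) U haff hU fun i => by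
    refine ⟨fun a b => QCoh.app_injective (kernel.ι φ) (U i) ((h i).1 ?_)⟩
    have e : ∀ a, φ.app (U i) ((kernel.ι φ).app (U i) a) = 0 := fun a =>
      congr(($(kernel.condition φ)).app (U i) a)
    rw [e, e]
  have hc := QCoh.isZero_of_cover (QCoh.isQCoh_cokernel hM hN φ) U haff hU fun i => by
    have e : ∀ a, (cokernel.π φ).app (U i) (φ.app (U i) a) = 0 := fun a =>
      congr(($(cokernel.condition φ)).app (U i) a)
    have hz : ∀ c : (cokernel φ).presheaf.obj (op (U i)), c = 0 := fun c => by
      obtain ⟨s, rfl⟩ := QCoh.app_surjective_of_epi hN (QCoh.isQCoh_cokernel hM hN φ) (cokernel.π φ) (haff i) c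
      obtain ⟨t, rfl⟩ := (h i).2 s
      exact e t
    exact ⟨fun a b => (hz a).trans (hz b).symm⟩
  have : Mono φ := Preadditive.mono_of_kernel_zero (hk.eq_of_src _ _)
  have : Epi φ := Preadditive.epi_of_cokernel_zero (hc.eq_of_tgt _ _)
  exact isIso_of_mono_of_epi φ

end Groth.Agent.CohH33
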