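import Groth.Agent.CohH33.TensorIso
import Groth.Agent.FlatCxLib.LinearFunctor

/-!
# Pullback of classes as the comparison map of a linear functor
-/

universe u

set_option backward.isDefEq.respectTransparency.types false
set_option maxHeartbeats 800000

open CategoryTheory AlgebraicGeometry AlgebraicGeometry.Scheme.Modules
open TopologicalSpace Opposite
open Groth.Agent.QCoh
open scoped TensorProduct

namespace Groth.Agent.CohH33

variable {A : Type u} [CommRing A] {X : Scheme.{u}} [X.Over (Spec (CommRingCat.of A))] (F : X.Modules)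
  (hF : Coh.IsQCoh F)

include hF in
/-- Scalars of the coefficient module act by multiplication. -/
theorem toSheaf_tensorA_map_smul (M : ModuleCat.{u} A) (a : A) :
    (SheafOfModules.toSheaf X.ringCatSheaf).map
        ((CohIII.tensorAFunctor A F).map (ModuleCat.ofHom (a • LinearMap.id : M →ₗ[A] M))) =
      Coh.smulAb (tA F M) (Coh.toGlobal (X ↘ Spec (CommRingCat.of A)) a) := by
  refine InducedCategory.hom_ext ?_
  refine TopCat.Sheaf.hom_ext (F := (Coh.toAb (tA F M)).obj) (F' := Coh.toAb (tA F M))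
    (range_affineOpens X) fun W => ?_
  refine AddCommGrpCat.ext fun y => ?_
  letI := secModule (Coh.toGlobal (X ↘ Spec (CommRingCat.of A))) F W.1
  letI := secModule (Coh.toGlobal (X ↘ Spec (CommRingCat.of A))) (tA F M) W.1
  obtain ⟨z, rfl⟩ := (bijective_tauA F hF M W.2).2 y
  show ((CohIII.tensorAFunctor A F).map (ModuleCat.ofHom (a • LinearMap.id : M →ₗ[A] M))).app W.1
      (tauA F M W.1 z) = a • tauA F M W.1 z
  induction z using TensorProduct.induction_on with
  | zero => rw [_root_.map_zero, smul_zero]; exact _root_.map_zero _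
  | add u v hu hv =>
    rw [_root_.map_add, smul_add]
    exact (_root_.map_add _ _ _).trans (congrArg₂ (· + ·) hu hv)
  | tmul s m =>
    rw [tauA_naturality, ← _root_.map_smul]
    exact congrArg _ (TensorProduct.tmul_smul a s m)

variable {B : Type u} [CommRing B] [Algebra A B] {X' : Scheme.{u}} (k : X' ⟶ X)
  (pB : X' ⟶ Spec (CommRingCat.of B))
  (h : IsPullback k pB (X ↘ Spec (CommRingCat.of A)) (Spec.map (CommRingCat.ofHom (algebraMap A B))))

include h hF in
/-- Pullback of classes along an affine base change through a linear model of `M ↦ H^p(X, F ⊗ M)`. -/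
theorem exists_tM_model (p : ℕ) (T : ModuleCat.{u} A ⥤ ModuleCat.{u} A) [T.Additive] [T.Linear A]
    (e : T ⋙ forget₂ (ModuleCat.{u} A) AddCommGrpCat.{u} ≅ CohIII.tensorAFunctor A F ⋙ CohIII.HAb X p) :
    letI := modHH (Coh.toGlobal (X ↘ Spec (CommRingCat.of A))) F p
    letI := modHH (Coh.toGlobal pB) ((pullback k).obj F) p
    ∃ (ε₀ : T.obj (ModuleCat.of A A) ≃ₗ[A] Coh.HH X F p)
      (Λ : T.obj (ModuleCat.of A B) ≃+ Coh.HH X' ((pullback k).obj F) p),
      ∀ (b : B) (y : T.obj (ModuleCat.of A A)),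
        Λ (FlatCxLib.tM T (ModuleCat.of A B) (y ⊗ₜ[A] b)) = b • CohPull.pullMod k F p (ε₀ y) := by
  letI := modHH (Coh.toGlobal (X ↘ Spec (CommRingCat.of A))) F p
  letI := modHH (Coh.toGlobal pB) ((pullback k).obj F) p
  obtain ⟨Φ₀, Φ, h₀, hΦ⟩ := exists_pullMod_model k pB h F hF p
  let eM : ∀ M : ModuleCat.{u} A, T.obj M ≃+ Coh.HH X (tA F M) p := fun M =>
    (e.app M).addCommGroupIsoToAddEquiv
  have hnat : ∀ {M N : ModuleCat.{u} A} (g : M ⟶ N) (y : T.obj M),
      eM N ((T.map g).hom y) = CohPull.mapH ((CohIII.tensorAFunctor A F).map g) p (eM M y) :=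
    fun g y => ConcreteCategory.congr_hom (e.hom.naturality g) y
  have hT : ∀ (a : A) (y : T.obj (ModuleCat.of A A)),
      (T.map (ModuleCat.ofHom (a • LinearMap.id : A →ₗ[A] A))).hom y = a • y := fun a y => by
    rw [show ModuleCat.ofHom (a • LinearMap.id : A →ₗ[A] A) = a • 𝟙 (ModuleCat.of A A) from rfl,
      T.map_smul, T.map_id]
    rfl
  refine ⟨AddEquiv.toLinearEquiv ((eM (ModuleCat.of A A)).trans Φ₀.symm) fun a y => ?_,
    (eM (ModuleCat.of A B)).trans Φ, fun b y => ?_⟩
  · refine Φ₀.injective ((Φ₀.apply_symm_apply _).trans ?_)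
    refine Eq.trans ?_ (h₀ a _).symm
    refine ((congrArg (eM (ModuleCat.of A A)) (hT a y).symm).trans (hnat _ y)).trans ?_
    refine (congrArg (fun φ => Sheaf.H.map φ p (eM (ModuleCat.of A A) y))
      (toSheaf_tensorA_map_smul F hF (ModuleCat.of A A) a)).trans ?_
    exact congrArg _ (Φ₀.apply_symm_apply _).symm
  · show Φ (eM (ModuleCat.of A B) (FlatCxLib.tM T (ModuleCat.of A B) (y ⊗ₜ[A] b))) = _
    rw [FlatCxLib.tM_tmul, hnat]
    refine Eq.trans ?_ (hΦ b (Φ₀.symm (eM (ModuleCat.of A A) y)))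
    exact congrArg (fun z => Φ (CohPull.mapH _ p z)) (Φ₀.apply_symm_apply _).symm

end Groth.Agent.CohH33
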