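import Groth.Agent.CohH33.SectAffine
import Groth.Agent.CohH33.PullModModel
import Groth.Agent.CohH33.BCAlg
import Groth.Agent.QCoh.RpushModel

/-!
# The base change map over affine opens in terms of a linear model
-/

universe u

set_option backward.isDefEq.respectTransparency.types false
set_option maxHeartbeats 800000
set_option maxRecDepth 4000
set_option linter.style.haveILetI false

open CategoryTheory AlgebraicGeometry AlgebraicGeometry.Scheme.Modules
open TopologicalSpace Opposite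
open CategoryTheory.Limits (isTerminalTop)
open Groth.Agent.QCoh
open scoped TensorProduct

namespace Groth.Agent.CohH33

variable {X S X' S' : Scheme.{u}}

/-- A linear functor computing `M ↦ H^p(f⁻¹V, F ⊗ M)`. -/
abbrev LinModel (f : X ⟶ S) (F : X.Modules) {V : S.Opens} (hV : IsAffineOpen V) (p : ℕ)
    (T : ModuleCat.{u} Γ(S, V) ⥤ ModuleCat.{u} Γ(S, V)) : Type _ :=
  letI : ((f ⁻¹ᵁ V : X.Opens) : Scheme.{u}).Over (Spec (CommRingCat.of Γ(S, V))) := ⟨overSpec f hV⟩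
  T ⋙ forget₂ (ModuleCat.{u} Γ(S, V)) AddCommGrpCat.{u} ≅
    CohIII.tensorAFunctor Γ(S, V) (F.restrict (f ⁻¹ᵁ V).ι) ⋙
      CohIII.HAb ((f ⁻¹ᵁ V : X.Opens) : Scheme.{u}) p

/-- An identification of `Γ(V, R)` with the cohomology over the preimage of `V`, linear over `Γ(S, V)`. -/
structure SecEquiv (f : X ⟶ S) (F : X.Modules) (p : ℕ) (R : S.Modules) (V : S.Opens) where
  /-- the identification -/
  e : Coh.HHon X F (f ⁻¹ᵁ V) p ≃+ Γ(R, V)
  /-- linearity -/
  smul : ∀ (a : Γ(S, V)) (x : Coh.HHon X F (f ⁻¹ᵁ V) p),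
    e (Sheaf.H.map (Coh.smulAb (F.restrict (f ⁻¹ᵁ V).ι) (rhoV f V a)) p x) = a • e x

section Local

variable {f : X ⟶ S} {g : S' ⟶ S} {f' : X' ⟶ S'} {g' : X' ⟶ X}
  {V : S.Opens} {W : S'.Opens}

theorem le_sq (w : g' ≫ f = f' ≫ g) (hle : W ≤ g ⁻¹ᵁ V) : f' ⁻¹ᵁ W ≤ g' ⁻¹ᵁ (f ⁻¹ᵁ V) :=
  (f'.preimage_mono hle).trans (CohCmp.sqLE f g f' g' w V)

theorem isPullback_chart (h : IsPullback g' f' f g) (hV : IsAffineOpen V) (hW : IsAffineOpen W)
    (hle : W ≤ g ⁻¹ᵁ V) :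
    IsPullback (g'.resLE (f ⁻¹ᵁ V) (f' ⁻¹ᵁ W) (le_sq h.w hle)) (overSpec f' hW) (overSpec f hV)
      (Spec.map (g.appLE V W hle)) := by
  let k := g'.resLE (f ⁻¹ᵁ V) (f' ⁻¹ᵁ W) (le_sq h.w hle)
  have hk : k ≫ (f ⁻¹ᵁ V).ι = (f' ⁻¹ᵁ W).ι ≫ g' := Scheme.Hom.resLE_comp_ι g' _
  have hc := exists_chart_map g hV hW hle
  have hbig : IsPullback (k ≫ (f ⁻¹ᵁ V).ι) (overSpec f' hW) f (Spec.map (g.appLE V W hle) ≫ hV.fromSpec) := by
    rw [hk, hc]
    exact (isPullback_overSpec (f := f') hW).paste_horiz h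
  refine IsPullback.of_right hbig ?_ (isPullback_overSpec (f := f) hV)
  rw [← cancel_mono hV.fromSpec, Category.assoc, Category.assoc, overSpec_fromSpec, hc, ← Category.assoc,
    ← Category.assoc, hk, Category.assoc, h.w, ← Category.assoc, overSpec_fromSpec]

/-- A transpose evaluated on pulled back sections. -/
theorem transpose_app_pullSec (g : S' ⟶ S) {R : S.Modules} {R' : S'.Modules}
    (u : R ⟶ (pushforward g).obj R') (hle : W ≤ g ⁻¹ᵁ V) (r : Γ(R, V)) :
    (((pullbackPushforwardAdjunction g).homEquiv R R').symm u).app W (pullSec g R hle r) =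
      R'.presheaf.map (homOfLE hle).op (u.app V r) := by
  refine (map_app_comm _ _ _).trans (congrArg _ ?_)
  have h1 := (pullbackPushforwardAdjunction g).homEquiv_unit R R'
    (((pullbackPushforwardAdjunction g).homEquiv R R').symm u)
  rw [Equiv.apply_symm_apply] at h1
  exact congr(($h1.symm).app V r)

/-- The base change map over affine opens is the comparison of a linear model. -/
theorem bc_local (h : IsPullback g' f' f g) (hV : IsAffineOpen V) (hW : IsAffineOpen W)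
    (hle : W ≤ g ⁻¹ᵁ V) {F : X.Modules} (hF : Coh.IsQCoh F) (p : ℕ) {R : S.Modules} (hR : Coh.IsQCoh R)
    {R' : S'.Modules} (ψ : (pullback g).obj R ⟶ R') (E : SecEquiv f F p R V)
    (E' : SecEquiv f' ((pullback g').obj F) p R' W)
    (hψ : ∀ x : Coh.HHon X F (f ⁻¹ᵁ V) p, ψ.app W (pullSec g R hle (E.e x)) =
      E'.e (CohPull.pullOn g' (f ⁻¹ᵁ V) (f' ⁻¹ᵁ W) (le_sq h.w hle) F p x))
    (T : ModuleCat.{u} Γ(S, V) ⥤ ModuleCat.{u} Γ(S, V)) [T.Additive] [T.Linear Γ(S, V)]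
    (e : LinModel f F hV p T) :
    letI : Algebra Γ(S, V) Γ(S', W) := (g.appLE V W hle).hom.toAlgebra
    (Function.Bijective (ψ.app W) ↔ Function.Bijective (FlatCxLib.tM T (ModuleCat.of Γ(S, V) Γ(S', W)))) ∧
      (Function.Surjective (ψ.app W) ↔
        Function.Surjective (FlatCxLib.tM T (ModuleCat.of Γ(S, V) Γ(S', W)))) := by
  letI : Algebra Γ(S, V) Γ(S', W) := (g.appLE V W hle).hom.toAlgebra
  letI : ((f ⁻¹ᵁ V : X.Opens) : Scheme.{u}).Over (Spec (CommRingCat.of Γ(S, V))) := ⟨overSpec f hV⟩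
  let U := f ⁻¹ᵁ V
  let U' := f' ⁻¹ᵁ W
  let k := g'.resLE U U' (le_sq h.w hle)
  let F₀ := F.restrict U.ι
  let F₁ := ((pullback g').obj F).restrict U'.ι
  have hF₀ : Coh.IsQCoh F₀ := isQCoh_restrict U.ι hF
  obtain ⟨ε₀, Λ, hΛ⟩ := exists_tM_model F₀ hF₀ k (overSpec f' hW) (isPullback_chart h hV hW hle) p T e
  letI := modHH (Coh.toGlobal (overSpec f hV)) F₀ p
  letI := modHH (Coh.toGlobal (overSpec f' hW)) ((pullback k).obj F₀) p
  letI := modHH (Coh.toGlobal (overSpec f' hW)) F₁ p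
  have hρ : ∀ a, Coh.toGlobal (overSpec f hV) a = rhoV f V a := fun a => by rw [toGlobal_overSpec]
  have hρ' : ∀ a, Coh.toGlobal (overSpec f' hW) a = rhoV f' W a := fun a => by rw [toGlobal_overSpec]
  let iso : Coh.HH _ ((pullback k).obj F₀) p ≃ₗ[Γ(S', W)] Coh.HH _ F₁ p :=
    HHcongr (Coh.toGlobal (overSpec f' hW)) (CohPull.pullOnIso g' U U' (le_sq h.w hle) F) p
  let εV : Coh.HH _ F₀ p ≃ₗ[Γ(S, V)] Γ(R, V) := AddEquiv.toLinearEquiv E.e fun a x =>
    (congrArg (fun c => E.e (Sheaf.H.map (Coh.smulAb F₀ c) p x)) (hρ a)).trans (E.smul a x)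
  let εW : Coh.HH _ F₁ p ≃ₗ[Γ(S', W)] Γ(R', W) := AddEquiv.toLinearEquiv E'.e fun a x =>
    (congrArg (fun c => E'.e (Sheaf.H.map (Coh.smulAb F₁ c) p x)) (hρ' a)).trans (E'.smul a x)
  letI : Module Γ(S, V) Γ((pullback g).obj R, W) := Module.compHom _ (g.appLE V W hle).hom
  haveI : IsScalarTower Γ(S, V) Γ(S', W) Γ((pullback g).obj R, W) := .of_algebraMap_smul fun _ _ => rfl
  let l : Γ(R, V) →ₗ[Γ(S, V)] Γ((pullback g).obj R, W) :=
    { toFun := pullSec g R hle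
      map_add' := pullSec_add g R hle
      map_smul' := pullSec_smul g R hle }
  have hl : IsBaseChange Γ(S', W) l := isBaseChange_pullback hV g hW hR hle (fun _ => rfl) l fun _ => rfl
  refine tM_comparison T hl (ε₀.trans εV) (ψ.app W).hom (Λ.trans (iso.trans εW).toAddEquiv) fun y b => ?_
  show (appLin ψ W) (b • pullSec g R hle (εV (ε₀ y))) =
    εW (iso (Λ (FlatCxLib.tM T (ModuleCat.of Γ(S, V) Γ(S', W)) (y ⊗ₜ b))))
  rw [hΛ, iso.map_smul, εW.map_smul, (appLin ψ W).map_smul]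
  exact congrArg (b • ·) (hψ (ε₀ y))

end Local

section GenBC

variable {f : X ⟶ S} {g : S' ⟶ S} {f' : X' ⟶ S'} {g' : X' ⟶ X}
  [HasInjectiveResolutions X.Modules] [HasInjectiveResolutions X'.Modules]
  {Δ : RDer.DerivedLES (pushforward f)} {Δ' : RDer.DerivedLES (pushforward f')}

/-- The comparison over an affine open. -/
noncomputable def secEquivε [QuasiCompact f] [QuasiSeparated f] (E : CohCmp.SectCmp f Δ) {F : X.Modules}
    (hF : Coh.IsQCoh F) (p : ℕ) {V : S.Opens} (hV : IsAffineOpen V) :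
    SecEquiv f F p ((Coh.Rpush f p).obj F) V where
  e := AddEquiv.ofBijective (E.ε V F p) (bijective_ε E hF hV p)
  smul a x := ε_smul E V a p F x

/-- The base change map on the classes of an open. -/
theorem bc_app_pullSec {w : g' ≫ f = f' ≫ g} {E : CohCmp.SectCmp f Δ} {E' : CohCmp.SectCmp f' Δ'}
    (B : CohCmp.GenBC f g f' g' w E E') (F : X.Modules) (p : ℕ) {V : S.Opens} {W : S'.Opens}
    (hle : W ≤ g ⁻¹ᵁ V) (x : Coh.HHon X F (f ⁻¹ᵁ V) p) :
    (B.bc p F).app W (pullSec g ((Coh.Rpush f p).obj F) hle (E.ε V F p x)) =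
      E'.ε W ((pullback g').obj F) p
        (CohPull.pullOn g' (f ⁻¹ᵁ V) (f' ⁻¹ᵁ W) (le_sq w hle) F p x) := by
  refine (transpose_app_pullSec g (B.φ p F) hle _).trans ?_
  refine (congrArg _ (B.compat V F p x)).trans ?_
  refine (ε_resLE E' hle p _ _).symm.trans (congrArg (E'.ε W ((pullback g').obj F) p) ?_)
  exact resLE_pullOn g' _ (f'.preimage_mono hle) F p x

theorem isQCoh_pullback' {F : X.Modules} (hF : Coh.IsQCoh F) (g' : X' ⟶ X) :
    Coh.IsQCoh ((pullback g').obj F) := isQCoh_pullback g' hF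

/-- Local form of the base change map in degree `p`. -/
theorem genBC_local (h : IsPullback g' f' f g) [QuasiCompact f] [QuasiSeparated f] {E : CohCmp.SectCmp f Δ}
    {E' : CohCmp.SectCmp f' Δ'} (B : CohCmp.GenBC f g f' g' h.w E E') {F : X.Modules} (hF : Coh.IsQCoh F)
    (p : ℕ) {V : S.Opens} (hV : IsAffineOpen V) {W : S'.Opens} (hW : IsAffineOpen W) (hle : W ≤ g ⁻¹ᵁ V)
    (T : ModuleCat.{u} Γ(S, V) ⥤ ModuleCat.{u} Γ(S, V)) [T.Additive] [T.Linear Γ(S, V)]
    (e : LinModel f F hV p T) :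
    letI : Algebra Γ(S, V) Γ(S', W) := (g.appLE V W hle).hom.toAlgebra
    (Function.Bijective ((B.bc p F).app W) ↔
        Function.Bijective (FlatCxLib.tM T (ModuleCat.of Γ(S, V) Γ(S', W)))) ∧
      (Function.Surjective ((B.bc p F).app W) ↔
        Function.Surjective (FlatCxLib.tM T (ModuleCat.of Γ(S, V) Γ(S', W)))) :=
  haveI : QuasiCompact f' := MorphismProperty.of_isPullback h inferInstance
  haveI : QuasiSeparated f' := MorphismProperty.of_isPullback h inferInstance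
  bc_local h hV hW hle hF p (isQCoh_Rpush f hF p) (B.bc p F) (secEquivε E hF p hV)
    (secEquivε E' (isQCoh_pullback g' hF) p hW) (bc_app_pullSec B F p hle) T e

end GenBC

section BC0

variable {f : X ⟶ S} {g : S' ⟶ S} {f' : X' ⟶ S'} {g' : X' ⟶ X}

theorem equiv₀_sectH0 (F : X.Modules) (U : X.Opens) (s : Γ(F, U)) :
    Sheaf.H.equiv₀ (Coh.toAb (F.restrict U.ι)) isTerminalTop (CohPull.sectH0 F U s) =
      F.presheaf.map (eqToHom U.ι_image_top).op s :=
  AddEquiv.apply_symm_apply _ _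

theorem sectH0_smul (f : X ⟶ S) (F : X.Modules) (V : S.Opens) (a : Γ(S, V)) (s : Γ(F, f ⁻¹ᵁ V)) :
    Sheaf.H.map (Coh.smulAb (F.restrict (f ⁻¹ᵁ V).ι) (rhoV f V a)) 0 (CohPull.sectH0 F (f ⁻¹ᵁ V) s) =
      CohPull.sectH0 F (f ⁻¹ᵁ V) ((f.app V a) • s) := by
  apply (Sheaf.H.equiv₀ (Coh.toAb (F.restrict (f ⁻¹ᵁ V).ι)) isTerminalTop).injective
  rw [← Sheaf.H.equiv₀_naturality]
  erw [AddEquiv.apply_symm_apply, AddEquiv.apply_symm_apply]
  exact smulAb_restrict_top f V a F s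

/-- Sections as classes of degree zero. -/
noncomputable def secEquiv₀ (f : X ⟶ S) (F : X.Modules) (V : S.Opens) :
    SecEquiv f F 0 ((pushforward f).obj F) V where
  e := (CohPull.sectH0 F (f ⁻¹ᵁ V)).symm
  smul a x := by
    obtain ⟨s, rfl⟩ := (CohPull.sectH0 F (f ⁻¹ᵁ V)).surjective x
    rw [sectH0_smul]
    exact (AddEquiv.symm_apply_apply _ _).trans (congrArg (fun t : Γ(F, f ⁻¹ᵁ V) => f.app V a • t) (AddEquiv.symm_apply_apply _ s)).symm

/-- Pullback of the class of a section. -/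
theorem pullOn_sectH0 (g' : X' ⟶ X) (U : X.Opens) (U' : X'.Opens) (hle : U' ≤ g' ⁻¹ᵁ U) (F : X.Modules)
    (s : Γ(F, U)) :
    CohPull.pullOn g' U U' hle F 0 (CohPull.sectH0 F U s) =
      CohPull.sectH0 ((pullback g').obj F) U' (pullSec g' F hle s) := by
  refine (pullOn_eq_cpull g' U U' hle F 0 _).trans ?_
  apply (Sheaf.H.equiv₀ (Coh.toAb (((pullback g').obj F).restrict U'.ι)) isTerminalTop).injective
  refine (equiv₀_cpull _ _ _).trans ?_
  refine Eq.trans ?_ (equiv₀_sectH0 ((pullback g').obj F) U' _).symm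
  refine (congrArg ((pullOnCo g' U U' hle F).app ⊤) (equiv₀_sectH0 F U s)).trans ?_
  refine (pullOnCo_app g' U U' hle F ⊤ _).trans ?_
  unfold pullSec
  refine (congrArg _ (map_app_comm ((pullbackPushforwardAdjunction g').unit.app F) _ s)).trans ?_
  exact (map_map_eq _ _ _ (homOfLE ((U'.ι_image_top).le.trans hle)) _).trans (map_map_eq _ _ _ _ _).symm

theorem bc0_app_pullSec (w : g' ≫ f = f' ≫ g) (F : X.Modules) {V : S.Opens} {W : S'.Opens}
    (hle : W ≤ g ⁻¹ᵁ V) (x : Coh.HHon X F (f ⁻¹ᵁ V) 0) :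
    (CohBC.bc0 f g f' g' w F).app W (pullSec g ((pushforward f).obj F) hle ((secEquiv₀ f F V).e x)) =
      (secEquiv₀ f' ((pullback g').obj F) W).e
        (CohPull.pullOn g' (f ⁻¹ᵁ V) (f' ⁻¹ᵁ W) (le_sq w hle) F 0 x) := by
  obtain ⟨s, rfl⟩ := (CohPull.sectH0 F (f ⁻¹ᵁ V)).surjective x
  show (CohBC.bc0 f g f' g' w F).app W (pullSec g _ hle ((CohPull.sectH0 F (f ⁻¹ᵁ V)).symm _)) =
    (CohPull.sectH0 ((pullback g').obj F) (f' ⁻¹ᵁ W)).symm _
  rw [pullOn_sectH0, AddEquiv.symm_apply_apply, AddEquiv.symm_apply_apply]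
  refine (transpose_app_pullSec g (CohBC.bc0Adj f g f' g' w F) hle s).trans ?_
  simp only [CohBC.bc0Adj, Hom.comp_app, pushforward_map_app, pushforwardComp_hom_app_app,
    pushforwardComp_inv_app_app, pushforwardCongr_hom_app_app, AddCommGrpCat.hom_comp,
    AddMonoidHom.coe_comp, Function.comp_apply, AddCommGrpCat.hom_id, AddMonoidHom.id_apply]
  exact (map_map_eq _ _ _ (homOfLE (le_sq w hle)) _).trans rfl

/-- Local form of the base change map in degree zero. -/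
theorem bc0_local (h : IsPullback g' f' f g) [QuasiCompact f] [QuasiSeparated f] {F : X.Modules}
    (hF : Coh.IsQCoh F) {V : S.Opens} (hV : IsAffineOpen V) {W : S'.Opens} (hW : IsAffineOpen W)
    (hle : W ≤ g ⁻¹ᵁ V)
    (T : ModuleCat.{u} Γ(S, V) ⥤ ModuleCat.{u} Γ(S, V)) [T.Additive] [T.Linear Γ(S, V)]
    (e : LinModel f F hV 0 T) :
    letI : Algebra Γ(S, V) Γ(S', W) := (g.appLE V W hle).hom.toAlgebra
    (Function.Bijective ((CohBC.bc0 f g f' g' h.w F).app W) ↔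
        Function.Bijective (FlatCxLib.tM T (ModuleCat.of Γ(S, V) Γ(S', W)))) ∧
      (Function.Surjective ((CohBC.bc0 f g f' g' h.w F).app W) ↔
        Function.Surjective (FlatCxLib.tM T (ModuleCat.of Γ(S, V) Γ(S', W)))) :=
  bc_local h hV hW hle hF 0 (isQCoh_pushforward f hF) (CohBC.bc0 f g f' g' h.w F) (secEquiv₀ f F V)
    (secEquiv₀ f' ((pullback g').obj F) W) (bc0_app_pullSec h.w F hle) T e

end BC0

end Groth.Agent.CohH33
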