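import Groth.Prelude.Def_CohPull
import Groth.Agent.QCoh.Ab.LerayNat
import Groth.Agent.QCoh.Ab.Push
import Groth.Agent.SiteBase.Top

/-!
# Maps on cohomology of abelian sheaves along a cohomomorphism

For `φ : X ⟶ Y` and `η : M ⟶ φ_* M'` the map `cpull φ η : H^p(Y, M) →+ H^p(X, M')`; its naturality,
its compatibility with connecting maps, its value in degree zero, and its functoriality in `φ`.
-/

universe u

open CategoryTheory CategoryTheory.Limits TopologicalSpace Opposite CategoryTheory.Abelian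

namespace Groth.Agent.CohH33

open Groth.Agent.QCoh.Ab

variable {X Y Z : TopCat.{u}}

section basic

variable (φ : X ⟶ Y)

/-- The transpose of a cohomomorphism `η : M ⟶ φ_* M'`. -/
noncomputable abbrev transp {M : CohTop.Ab Y} {M' : CohTop.Ab X}
    (η : M ⟶ (CohTop.push φ).obj M') : (CohPull.inv φ).obj M ⟶ M' :=
  ((CohPull.invPushAdj φ).homEquiv _ _).symm η

/-- The map `H^p(Y, M) → H^p(X, M')` along a cohomomorphism `η : M ⟶ φ_* M'`. -/
noncomputable def cpull {M : CohTop.Ab Y} {M' : CohTop.Ab X}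
    (η : M ⟶ (CohTop.push φ).obj M') (p : ℕ) : Sheaf.H M p →+ Sheaf.H M' p :=
  (Sheaf.H.map (transp φ η) p).comp (CohPull.pullAb φ M p)

theorem pullAb_apply (M : CohTop.Ab Y) (p : ℕ) (x : Sheaf.H M p) :
    CohPull.pullAb φ M p x =
      (Ext.mk₀ (CohPull.oneTo φ)).comp (x.mapExactFunctor (CohPull.inv φ)) (zero_add p) :=
  rfl

theorem pullAb_natural {M N : CohTop.Ab Y} (a : M ⟶ N) (p : ℕ) (x : Sheaf.H M p) :
    Sheaf.H.map ((CohPull.inv φ).map a) p (CohPull.pullAb φ M p x) =
      CohPull.pullAb φ N p (Sheaf.H.map a p x) := by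
  rw [pullAb_apply, pullAb_apply, Sheaf.H.map_apply, Sheaf.H.map_apply,
    Ext.mapExactFunctor_comp, Ext.mapExactFunctor_mk₀, Ext.comp_assoc_of_third_deg_zero]

variable {M N : CohTop.Ab Y} {M' N' : CohTop.Ab X}

/-- `cpull` is natural in commutative squares of cohomomorphisms. -/
theorem cpull_natural (η : M ⟶ (CohTop.push φ).obj M') (η' : N ⟶ (CohTop.push φ).obj N')
    (a : M ⟶ N) (b : M' ⟶ N') (h : η ≫ (CohTop.push φ).map b = a ≫ η') (p : ℕ) (x : Sheaf.H M p) :
    Sheaf.H.map b p (cpull φ η p x) = cpull φ η' p (Sheaf.H.map a p x) := by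
  have e : transp φ η ≫ b = (CohPull.inv φ).map a ≫ transp φ η' := by
    rw [transp, transp, ← Adjunction.homEquiv_naturality_right_symm,
      ← Adjunction.homEquiv_naturality_left_symm, h]
  rw [cpull, cpull, AddMonoidHom.comp_apply, AddMonoidHom.comp_apply, ← Sheaf.H.map_comp_apply, e,
    Sheaf.H.map_comp_apply, pullAb_natural]

theorem map_cpull (η : M ⟶ (CohTop.push φ).obj M') (b : M' ⟶ N') (p : ℕ) (x : Sheaf.H M p) :
    Sheaf.H.map b p (cpull φ η p x) = cpull φ (η ≫ (CohTop.push φ).map b) p x := by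
  rw [cpull_natural φ η (η ≫ (CohTop.push φ).map b) (𝟙 M) b (Category.id_comp _).symm,
    Sheaf.H.map_id_apply]

theorem cpull_map (η' : N ⟶ (CohTop.push φ).obj N') (a : M ⟶ N) (p : ℕ) (x : Sheaf.H M p) :
    cpull φ η' p (Sheaf.H.map a p x) = cpull φ (a ≫ η') p x := by
  rw [← cpull_natural φ (a ≫ η') η' a (𝟙 N')
    (by rw [CategoryTheory.Functor.map_id, Category.comp_id]), Sheaf.H.map_id_apply]

/-- In degree zero `cpull` is the cohomomorphism on global sections. -/
theorem equiv₀_cpull (η : M ⟶ (CohTop.push φ).obj M') (x : Sheaf.H M 0) :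
    Sheaf.H.equiv₀ M' isTerminalTop (cpull φ η 0 x) =
      η.hom.app (op ⊤) (Sheaf.H.equiv₀ M isTerminalTop x) := by
  rw [cpull, AddMonoidHom.comp_apply, ← Sheaf.H.equiv₀_naturality, CohPull.equiv₀_pullAb]
  have h := (CohPull.invPushAdj φ).homEquiv_unit _ _ (transp φ η)
  rw [transp, Equiv.apply_symm_apply] at h
  exact (congr_arg (fun t => (t.hom.app (op ⊤)) (Sheaf.H.equiv₀ M isTerminalTop x)) h).symm

end basic

section connecting

variable (φ : X ⟶ Y) {S : ShortComplex (CohTop.Ab Y)} {S' : ShortComplex (CohTop.Ab X)}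

/-- `cpull` commutes with connecting maps. -/
theorem cpull_connecting (hS : S.ShortExact) (hS' : S'.ShortExact)
    (η₁ : S.X₁ ⟶ (CohTop.push φ).obj S'.X₁) (η₂ : S.X₂ ⟶ (CohTop.push φ).obj S'.X₂)
    (η₃ : S.X₃ ⟶ (CohTop.push φ).obj S'.X₃)
    (h₁ : η₁ ≫ (CohTop.push φ).map S'.f = S.f ≫ η₂)
    (h₂ : η₂ ≫ (CohTop.push φ).map S'.g = S.g ≫ η₃) (n : ℕ) (x : Sheaf.H S.X₃ n) :
    cpull φ η₁ (n + 1) (connecting hS n x) = connecting hS' n (cpull φ η₃ n x) := by
  have hT : (S.map (CohPull.inv φ)).ShortExact := hS.map_of_exact _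
  have hp : CohPull.pullAb φ S.X₁ (n + 1) (connecting hS n x) =
      connecting hT n (CohPull.pullAb φ S.X₃ n x) := by
    show CohPull.pullAb φ S.X₁ (n + 1) (x.comp hS.extClass rfl) =
      (CohPull.pullAb φ S.X₃ n x).comp hT.extClass rfl
    rw [pullAb_apply, pullAb_apply, Ext.mapExactFunctor_comp, Ext.mapExactFunctor_extClass]
    exact (Ext.comp_assoc _ _ _ (zero_add n) rfl (by omega)).symm
  let ψ : S.map (CohPull.inv φ) ⟶ S' :=
    { τ₁ := transp φ η₁
      τ₂ := transp φ η₂
      τ₃ := transp φ η₃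
      comm₁₂ := by
        show transp φ η₁ ≫ S'.f = (CohPull.inv φ).map S.f ≫ transp φ η₂
        rw [transp, transp, ← Adjunction.homEquiv_naturality_right_symm,
          ← Adjunction.homEquiv_naturality_left_symm, h₁]
      comm₂₃ := by
        show transp φ η₂ ≫ S'.g = (CohPull.inv φ).map S.g ≫ transp φ η₃
        rw [transp, transp, ← Adjunction.homEquiv_naturality_right_symm,
          ← Adjunction.homEquiv_naturality_left_symm, h₂] }
  show Sheaf.H.map (transp φ η₁) (n + 1) (CohPull.pullAb φ S.X₁ (n + 1) (connecting hS n x)) = _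
  rw [hp]
  exact connecting_naturality hT hS' ψ n _

end connecting

section pres

variable (φ : X ⟶ Y)

/-- Injective presentations receive an extension of every cohomomorphism. -/
theorem exists_pres_lift {M : CohTop.Ab Y} {M' : CohTop.Ab X} (η : M ⟶ (CohTop.push φ).obj M') :
    ∃ (η₂ : (pres M).X₂ ⟶ (CohTop.push φ).obj (pres M').X₂)
      (η₃ : (pres M).X₃ ⟶ (CohTop.push φ).obj (pres M').X₃),
      η ≫ (CohTop.push φ).map (pres M').f = (pres M).f ≫ η₂ ∧
      η₂ ≫ (CohTop.push φ).map (pres M').g = (pres M).g ≫ η₃ := by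
  have : Injective (pres M').X₂ := Injective.injective_under M'
  have : Injective ((CohTop.push φ).obj (pres M').X₂) := SiteBase.injective_push φ _
  let η₂ : (pres M).X₂ ⟶ (CohTop.push φ).obj (pres M').X₂ :=
    Injective.factorThru (η ≫ (CohTop.push φ).map (pres M').f) (Injective.ι M)
  have h₁ : (pres M).f ≫ η₂ = η ≫ (CohTop.push φ).map (pres M').f := Injective.comp_factorThru _ _
  have := (pres_shortExact M).epi_g
  refine ⟨η₂, (pres_shortExact M).gIsCokernel.desc
    (CokernelCofork.ofπ (η₂ ≫ (CohTop.push φ).map (pres M').g) ?_), h₁.symm, ?_⟩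
  · rw [← Category.assoc, h₁, Category.assoc, ← Functor.map_comp, (pres M').zero,
      Functor.map_zero, Limits.comp_zero]
  · exact ((pres_shortExact M).gIsCokernel.fac
      (CokernelCofork.ofπ (η₂ ≫ (CohTop.push φ).map (pres M').g) _) WalkingParallelPair.one).symm

theorem pres_connecting_surjective (M : CohTop.Ab Y) (n : ℕ) :
    Function.Surjective (connecting (pres_shortExact M) n) :=
  connecting_surjective (pres_shortExact M) n
    (haveI : Injective (pres M).X₂ := Injective.injective_under M; inferInstance)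

end pres

/-- Along the identity `cpull` is the functoriality of cohomology in the sheaf. -/
theorem cpull_id {M M' : CohTop.Ab X} (η : M ⟶ (CohTop.push (𝟙 X)).obj M') (p : ℕ)
    (x : Sheaf.H M p) : cpull (𝟙 X) η p x = Sheaf.H.map (G := M') η p x := by
  induction p generalizing M M' with
  | zero =>
    apply (Sheaf.H.equiv₀ M' isTerminalTop).injective
    exact (equiv₀_cpull (𝟙 X) η x).trans (Sheaf.H.equiv₀_naturality isTerminalTop (G := M') η x)
  | succ n ih =>
    obtain ⟨η₂, η₃, h₁, h₂⟩ := exists_pres_lift (𝟙 X) η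
    obtain ⟨y, rfl⟩ := pres_connecting_surjective M n x
    refine (cpull_connecting (𝟙 X) (pres_shortExact M) (pres_shortExact M') η η₂ η₃ h₁ h₂ n y).trans
      ((congrArg (connecting (pres_shortExact M') n) (ih η₃ y)).trans ?_)
    exact (connecting_naturality (pres_shortExact M) (pres_shortExact M')
      { τ₁ := η, τ₂ := η₂, τ₃ := η₃, comm₁₂ := h₁, comm₂₃ := h₂ } n y).symm

/-- `cpull` is functorial in the continuous map. -/
theorem cpull_cpull (φ : X ⟶ Y) (ψ : Y ⟶ Z) {M : CohTop.Ab Z} {M' : CohTop.Ab Y}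
    {M'' : CohTop.Ab X} (η : M ⟶ (CohTop.push ψ).obj M') (η' : M' ⟶ (CohTop.push φ).obj M'')
    (ζ : M ⟶ (CohTop.push (φ ≫ ψ)).obj M'')
    (hζ : ζ = η ≫ (CohTop.push ψ).map η') (p : ℕ) (x : Sheaf.H M p) :
    cpull φ η' p (cpull ψ η p x) = cpull (φ ≫ ψ) ζ p x := by
  induction p generalizing M M' M'' with
  | zero =>
    apply (Sheaf.H.equiv₀ M'' isTerminalTop).injective
    rw [equiv₀_cpull, equiv₀_cpull, equiv₀_cpull, hζ]
    rfl
  | succ n ih =>
    obtain ⟨η₂, η₃, h₁, h₂⟩ := exists_pres_lift ψ η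
    obtain ⟨η'₂, η'₃, h'₁, h'₂⟩ := exists_pres_lift φ η'
    obtain ⟨y, rfl⟩ := pres_connecting_surjective M n x
    rw [cpull_connecting ψ (pres_shortExact M) (pres_shortExact M') η η₂ η₃ h₁ h₂ n y,
      cpull_connecting φ (pres_shortExact M') (pres_shortExact M'') η' η'₂ η'₃ h'₁ h'₂ n,
      ih η₃ η'₃ (η₃ ≫ (CohTop.push ψ).map η'₃) rfl]
    refine (cpull_connecting (φ ≫ ψ) (pres_shortExact M) (pres_shortExact M'') ζ
      (η₂ ≫ (CohTop.push ψ).map η'₂) (η₃ ≫ (CohTop.push ψ).map η'₃) ?_ ?_ n y).symm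
    · subst hζ
      show (η ≫ (CohTop.push ψ).map η') ≫ (CohTop.push ψ).map ((CohTop.push φ).map (pres M'').f) = _
      rw [Category.assoc, ← Functor.map_comp, h'₁, Functor.map_comp, ← Category.assoc, h₁,
        Category.assoc]
      rfl
    · show (η₂ ≫ (CohTop.push ψ).map η'₂) ≫ (CohTop.push ψ).map ((CohTop.push φ).map (pres M'').g) = _
      rw [Category.assoc, ← Functor.map_comp, h'₂, Functor.map_comp, ← Category.assoc, h₂,
        Category.assoc]
      rfl

end Groth.Agent.CohH33
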