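import Groth.Agent.FlatCxLib.LinearFunctor
import Groth.Agent.FlatCxLib.TFunctor
import Groth.Agent.FlatCxLib.BaseChange
import Groth.Agent.FlatCxLib.HomologyBC
import Groth.Agent.FlatCxLib.Reduced
import Groth.Agent.QCoh.BcT
import Groth.Agent.QCoh.LocalExchange
import Mathlib.RingTheory.Localization.Free
import Mathlib.RingTheory.Flat.EquationalCriterion
import Mathlib.RingTheory.Support

/-!
# The exchange property over an arbitrary ring
-/

universe u

set_option backward.isDefEq.respectTransparency false
set_option backward.isDefEq.respectTransparency.types false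
set_option linter.style.haveILetI false
set_option maxHeartbeats 1000000

open CategoryTheory CategoryTheory.Limits MonoidalCategory
open scoped TensorProduct

namespace Groth.Agent.CohH33

open Groth.Agent.FlatCxLib

variable {A : Type u} [CommRing A]

/-- A complex of finite free modules, bounded below, acyclic in positive degrees after tensoring. -/
structure IsModelCx (P : ChainComplex (ModuleCat.{u} A) ℤ) : Prop where
  fin : ∀ i, Module.Finite A (P.X i)
  free : ∀ i, Module.Free A (P.X i)
  bound : ∃ c : ℤ, ∀ i, i < c → IsZero (P.X i)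
  pos : ∀ q : ℤ, 0 < q → ∀ M : ModuleCat.{u} A, IsZero (CohIII.T P q M)

variable {P : ChainComplex (ModuleCat.{u} A) ℤ}

theorem IsModelCx.flat (hP : IsModelCx P) (i : ℤ) : Module.Flat A (P.X i) :=
  @Module.Flat.of_free _ _ _ _ _ (hP.free i)

theorem IsModelCx.fp (hP : IsModelCx P) (i : ℤ) : Module.FinitePresentation A (P.X i) :=
  have := hP.fin i
  have := hP.free i
  Module.finitePresentation_of_projective A (P.X i)

/-- When `T_q` preserves epimorphisms it is the tensor product with its value at `A`. -/
theorem bijective_tM_of_preservesEpi (hP : ∀ i, Module.Flat A (P.X i)) {q : ℤ}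
    (h : (CohIII.TFun P q).PreservesEpimorphisms) (M : ModuleCat.{u} A) :
    Function.Bijective (tM (CohIII.TFun P q) M) := by
  haveI : ∀ J : Type u, PreservesColimitsOfShape (Discrete J) (CohIII.TFun P q) :=
    preservesColimitsOfShape_tfun P q
  have hs := surjective_tM_of_epi (CohIII.TFun P q) fun f hf =>
    @Functor.PreservesEpimorphisms.preserves _ _ _ _ _ h _ _ f hf
  exact ⟨injective_tM_of_halfExact _ (halfExact_tfun hP q) hs M, hs M⟩

section

variable (T : ModuleCat.{u} A ⥤ ModuleCat.{u} A) [T.Additive] [T.Linear A]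

theorem surjective_map_of_surjective_tM {M N : ModuleCat.{u} A} (g : M ⟶ N) (hg : Function.Surjective g.hom)
    (h : Function.Surjective (tM T N)) : Function.Surjective (T.map g).hom := by
  intro z
  obtain ⟨w, rfl⟩ := h z
  obtain ⟨v, rfl⟩ := LinearMap.lTensor_surjective (T.obj (ModuleCat.of A A)) hg w
  exact ⟨tM T M v, (ConcreteCategory.congr_hom ((tNat T).naturality g) v).symm⟩

theorem surjective_tM_of_retract {M N : ModuleCat.{u} A} (i : N ⟶ M) (r : M ⟶ N) (hir : i ≫ r = 𝟙 N)
    (h : Function.Surjective (tM T M)) : Function.Surjective (tM T N) := by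
  intro z
  obtain ⟨w, hw⟩ := h ((T.map i).hom z)
  refine ⟨r.hom.lTensor _ w, ?_⟩
  refine (ConcreteCategory.congr_hom ((tNat T).naturality r) w).trans ((congrArg (T.map r).hom hw).trans ?_)
  have e := congrArg (fun φ => (T.map φ).hom z) hir
  simpa using e

end

theorem finitePresentation_coker (hP : IsModelCx P) (p q : ℤ) :
    Module.FinitePresentation A (Coker P p q) := by
  have := hP.fin p
  have := hP.fp q
  exact Module.finitePresentation_of_surjective _ (Submodule.mkQ_surjective _) (by
    rw [Submodule.ker_mkQ, LinearMap.range_eq_map]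
    exact Module.Finite.fg_top.map _)

/-- The exchange property: surjectivity at a point propagates to a basic neighbourhood. -/
theorem exists_flat_coker_away (hP : IsModelCx P) {q : ℤ} (x : PrimeSpectrum A) {K : Type u} [Field K]
    [Algebra A K] (hK : RingHom.ker (algebraMap A K) = x.asIdeal)
    (h : Function.Surjective (tM (CohIII.TFun P q) (ModuleCat.of A K))) :
    ∃ r ∉ x.asIdeal, Module.Flat (Localization.Away r) (Localization.Away r ⊗[A] Coker P q (q - 1)) := by
  let A' := Localization.AtPrime x.asIdeal
  let κ := x.asIdeal.ResidueField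
  let P' := CohIII.bcCx (algebraMap A A') P
  have hflat := hP.flat
  have hfin' : ∀ i, Module.Finite A' (P'.X i) := fun i => by
    exact QCoh.finite_bcCx_X_aux (P := P) (algebraMap A A') hP.fin i
  let ι : κ →+* K := Ideal.ResidueField.lift x.asIdeal (algebraMap A K) hK.ge
    fun a ha => isUnit_iff_ne_zero.2 fun h0 => ha (hK.le h0)
  let ιA : κ →ₗ[A] K :=
    { toFun := ι
      map_add' := ι.map_add
      map_smul' := fun a z => by
        rw [Algebra.smul_def, map_mul, Ideal.ResidueField.lift_algebraMap, RingHom.id_apply,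
          Algebra.smul_def] }
  letI := ι.toAlgebra
  haveI : IsScalarTower A κ K := .of_algebraMap_eq fun a =>
    (Ideal.ResidueField.lift_algebraMap x.asIdeal (algebraMap A K) hK.ge _ a).symm
  obtain ⟨r₀, hr₀⟩ := (Algebra.linearMap κ K).exists_leftInverse_of_injective
    (LinearMap.ker_eq_bot.2 ι.injective)
  have hs : Function.Surjective (tM (CohIII.TFun P q) (ModuleCat.of A κ)) :=
    surjective_tM_of_retract _ (ModuleCat.ofHom ιA) (ModuleCat.ofHom (r₀.restrictScalars A))
      (ModuleCat.hom_ext (LinearMap.ext fun z => LinearMap.congr_fun hr₀ z)) h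
  obtain ⟨e⟩ := QCoh.nonempty_bcT_iso P (algebraMap A A') q
  let res : ModuleCat.of A' A' ⟶ ModuleCat.of A' (IsLocalRing.ResidueField A') :=
    ModuleCat.ofHom (Algebra.linearMap A' (IsLocalRing.ResidueField A'))
  let R := ModuleCat.restrictScalars (algebraMap A A')
  let Y := R.obj (ModuleCat.of A' (IsLocalRing.ResidueField A'))
  have hY : ∀ (a : A) (z : Y), (show κ from (a • z : Y)) = a • (show κ from z) := fun a z => by
    show algebraMap A A' a • (show κ from z) = a • (show κ from z)
    rw [algebraMap_smul]
  let lj : Y ≃ₗ[A] κ := AddEquiv.toLinearEquiv (show Y ≃+ κ from AddEquiv.refl κ) hY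
  have hs' : Function.Surjective ((CohIII.TFun P q).map (R.map res)).hom :=
    surjective_map_of_surjective_tM _ _ (IsLocalRing.residue_surjective (R := A'))
      (surjective_tM_of_retract _ (M := ModuleCat.of A κ) (N := Y) lj.toModuleIso.hom lj.toModuleIso.inv lj.toModuleIso.hom_inv_id hs)
  have hres : Function.Surjective ((CohIII.TFun P' q).map res).hom := by
    intro z
    obtain ⟨w, hw⟩ := hs' ((e.app _).addCommGroupIsoToAddEquiv z)
    refine ⟨(e.app _).addCommGroupIsoToAddEquiv.symm w, (e.app _).addCommGroupIsoToAddEquiv.injective ?_⟩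
    refine (ConcreteCategory.congr_hom (e.hom.naturality res) _).trans ?_
    refine Eq.trans ?_ hw
    exact congrArg ((CohIII.TFun P q).map (R.map res)).hom
      ((e.app (ModuleCat.of A' A')).addCommGroupIsoToAddEquiv.apply_symm_apply w)
  have hepi := (preservesEpi_iff_surjective_residue (flat_bcCx_X P hflat) hfin').2 hres
  have hf' : Module.Flat A' (A' ⊗[A] Coker P q (q - 1)) :=
    (preservesEpi_bcCx_iff P hflat (show q - 1 + 1 = q by lia)).1 hepi
  haveI := finitePresentation_coker hP q (q - 1)
  haveI : Module.Free A' (A' ⊗[A] Coker P q (q - 1)) := Module.free_of_flat_of_isLocalRing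
  haveI : IsLocalizedModule x.asIdeal.primeCompl (TensorProduct.mk A A' (Coker P q (q - 1)) 1) :=
    (isLocalizedModule_iff_isBaseChange x.asIdeal.primeCompl A' _).2 (TensorProduct.isBaseChange A _ A')
  obtain ⟨r, hr, hfr, -⟩ := Module.FinitePresentation.exists_free_localizedModule_powers
    x.asIdeal.primeCompl (TensorProduct.mk A A' (Coker P q (q - 1)) 1) A'
  exact ⟨r, hr, Module.Flat.of_linearEquiv (LocalizedModule.equivTensorProduct (.powers r) _).symm⟩

/-- `T_q` preserves epimorphisms after the base change. -/
theorem preservesEpi_away (hP : IsModelCx P) {q : ℤ} {r : A}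
    (h : Module.Flat (Localization.Away r) (Localization.Away r ⊗[A] Coker P q (q - 1))) :
    (CohIII.TFun (CohIII.bcCx (algebraMap A (Localization.Away r)) P) q).PreservesEpimorphisms :=
  (preservesEpi_bcCx_iff P hP.flat (show q - 1 + 1 = q by lia)).2 h

/-- The model after a base change. -/
theorem IsModelCx.bc (hP : IsModelCx P) {B : Type u} [CommRing B] (φ : A →+* B) :
    IsModelCx (CohIII.bcCx φ P) where
  fin i := by
    letI := φ.toAlgebra
    have := hP.fin i
    exact inferInstanceAs (Module.Finite B (B ⊗[A] P.X i))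
  free i := by
    letI := φ.toAlgebra
    have := hP.free i
    exact inferInstanceAs (Module.Free B (B ⊗[A] P.X i))
  bound := by
    obtain ⟨c, hc⟩ := hP.bound
    exact ⟨c, fun i hi => (ModuleCat.extendScalars φ).map_isZero (hc i hi)⟩
  pos q hq M := by
    obtain ⟨e⟩ := QCoh.nonempty_bcT_iso P φ q
    have : Subsingleton (CohIII.T P q ((ModuleCat.restrictScalars φ).obj M)) :=
      ModuleCat.subsingleton_of_isZero (hP.pos q hq _)
    rw [ModuleCat.isZero_iff_subsingleton]
    exact @Equiv.subsingleton _ _ (e.app M).addCommGroupIsoToAddEquiv.toEquiv this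

theorem preservesEpi_bc_of_preservesEpi (hP : IsModelCx P) {B : Type u} [CommRing B] [Algebra A B] {q : ℤ}
    (h : (CohIII.TFun P q).PreservesEpimorphisms) :
    (CohIII.TFun (CohIII.bcCx (algebraMap A B) P) q).PreservesEpimorphisms := by
  have := (preservesEpi_iff hP.flat (show q - 1 + 1 = q by lia)).1 h
  exact (preservesEpi_bcCx_iff P hP.flat (show q - 1 + 1 = q by lia)).2 inferInstance

/-- Vanishing propagates to epimorphisms. -/
theorem preservesEpi_of_isZero {q : ℤ} (h : ∀ M, IsZero (CohIII.T P q M)) :
    (CohIII.TFun P q).PreservesEpimorphisms :=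
  ⟨fun {_ N} _ _ => ⟨fun g g' _ => (h N).eq_of_src g g'⟩⟩

theorem preservesEpi_pos (hP : IsModelCx P) {q : ℤ} (hq : 0 < q) :
    (CohIII.TFun P q).PreservesEpimorphisms :=
  preservesEpi_of_isZero (hP.pos q hq)

theorem exists_bound_isZero_T (hP : IsModelCx P) : ∃ c : ℤ, ∀ q < c, ∀ M, IsZero (CohIII.T P q M) := by
  obtain ⟨c, hc⟩ := hP.bound
  refine ⟨c, fun q hq M => ?_⟩
  show IsZero ((CohIII.tensorObj P M).homology q)
  refine HomologicalComplex.ExactAt.isZero_homology (ShortComplex.exact_of_isZero_X₂ _ ?_)
  rw [ModuleCat.isZero_iff_subsingleton]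
  haveI := ModuleCat.subsingleton_of_isZero (hc q hq)
  exact inferInstanceAs (Subsingleton (P.X q ⊗[A] M))

section Epi

variable (hP : IsModelCx P) {q : ℤ} (hq : (CohIII.TFun P q).PreservesEpimorphisms)

include hP hq

theorem projective_coker : Module.Projective A (Coker P q (q - 1)) := by
  haveI := (preservesEpi_iff hP.flat (show q - 1 + 1 = q by lia)).1 hq
  haveI := finitePresentation_coker hP q (q - 1)
  exact Module.Flat.projective_of_finitePresentation

theorem finitePresentation_hom' :
    Module.FinitePresentation A (Hom' P (q + 1) q (q - 1)) := by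
  have := projective_coker hP hq
  have := hP.fp q
  have := hP.fp (q - 1)
  have := hP.fin (q + 1)
  let d := (P.d q (q - 1)).hom
  haveI : Module.Flat A (Coker P q (q - 1)) := Module.Flat.of_projective
  haveI := flat_range P q (q - 1) hP.flat
  haveI : Module.Finite A (LinearMap.range d) := Module.Finite.range d
  haveI : Module.FinitePresentation A (LinearMap.range d) := by
    have hs := Module.projective_lifting_property (LinearMap.range d).mkQ LinearMap.id
      (Submodule.mkQ_surjective _)
    obtain ⟨s, hs⟩ := hs
    let π : P.X (q - 1) →ₗ[A] LinearMap.range d :=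
      (LinearMap.id - s ∘ₗ (LinearMap.range d).mkQ).codRestrict _ fun z => by
        rw [← Submodule.Quotient.mk_eq_zero]
        exact (map_sub (LinearMap.range d).mkQ _ _).trans
          (sub_eq_zero.2 (LinearMap.congr_fun hs _).symm)
    refine Module.finitePresentation_of_surjective π (fun z => ⟨z.1, Subtype.ext ?_⟩) ?_
    · show z.1 - s ((LinearMap.range d).mkQ z.1) = z.1
      rw [(Submodule.Quotient.mk_eq_zero _).2 z.2 |> fun h : (LinearMap.range d).mkQ z.1 = 0 => h, map_zero,
        sub_zero]
    · have hk : LinearMap.ker π = LinearMap.range s := by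
        ext z
        rw [LinearMap.mem_ker, Subtype.ext_iff]
        show z - s ((LinearMap.range d).mkQ z) = 0 ↔ _
        exact ⟨fun h => ⟨_, (sub_eq_zero.1 h).symm⟩, fun ⟨w, hw⟩ => by
          rw [← hw, show (LinearMap.range d).mkQ (s w) = w from LinearMap.congr_fun hs w, sub_self]⟩
      rw [hk, LinearMap.range_eq_map]
      exact Module.Finite.fg_top.map _
  have hproj : Module.Projective A (LinearMap.range d) := Module.Flat.projective_of_finitePresentation
  obtain ⟨t, ht⟩ := Module.projective_lifting_property d.rangeRestrict LinearMap.id d.surjective_rangeRestrict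
  let π : P.X q →ₗ[A] Cyc P q (q - 1) :=
    (LinearMap.id - t ∘ₗ d.rangeRestrict).codRestrict _ fun z => by
      show d (z - t (d.rangeRestrict z)) = 0
      rw [map_sub, show d (t (d.rangeRestrict z)) = d z from
        congrArg Subtype.val (LinearMap.congr_fun ht (d.rangeRestrict z)), sub_self]
  have hπ : Function.Surjective π := fun z => ⟨z.1, Subtype.ext (by
    show z.1 - t (d.rangeRestrict z.1) = z.1
    rw [show d.rangeRestrict z.1 = 0 from Subtype.ext z.2, map_zero, sub_zero])⟩
  haveI : Module.FinitePresentation A (Cyc P q (q - 1)) := by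
    refine Module.finitePresentation_of_surjective π hπ ?_
    have hk : LinearMap.ker π = LinearMap.range t := by
      ext z
      rw [LinearMap.mem_ker, Subtype.ext_iff]
      show z - t (d.rangeRestrict z) = 0 ↔ _
      exact ⟨fun h => ⟨_, (sub_eq_zero.1 h).symm⟩, fun ⟨w, hw⟩ => by
        rw [← hw, show d.rangeRestrict (t w) = w from LinearMap.congr_fun ht w, sub_self]⟩
    rw [hk, LinearMap.range_eq_map]
    exact Module.Finite.fg_top.map _
  exact Module.finitePresentation_of_surjective _ (Submodule.mkQ_surjective _) (by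
    rw [Submodule.ker_mkQ, LinearMap.range_eq_map]
    exact Module.Finite.fg_top.map _)

theorem finitePresentation_T : Module.FinitePresentation A (CohIII.T P q (ModuleCat.of A A)) :=
  haveI := finitePresentation_hom' hP hq
  Module.finitePresentation_of_surjective (hom'EquivT (P := P) rfl (show q - 1 + 1 = q by lia)).toLinearMap
    (LinearEquiv.surjective _) (by
      rw [LinearEquiv.ker]; exact Submodule.fg_bot)

/-- The next functor preserves epimorphisms exactly when `T_q(A)` is flat. -/
theorem preservesEpi_succ_iff :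
    (CohIII.TFun P (q + 1)).PreservesEpimorphisms ↔ Module.Flat A (CohIII.T P q (ModuleCat.of A A)) := by
  haveI := (preservesEpi_iff hP.flat (show q - 1 + 1 = q by lia)).1 hq
  rw [preservesEpi_iff hP.flat rfl, flat_coker_iff P (q + 1) q (q - 1) hP.flat]
  exact Module.Flat.equiv_iff (hom'EquivT (P := P) rfl (show q - 1 + 1 = q by lia))

/-- The dimension of the fibre is the fibre rank of `T_q(A)`. -/
theorem dRank_eq (x : PrimeSpectrum A) :
    CohIII.dRank P q x = fibreRank (CohIII.T P q (ModuleCat.of A A)) x := by
  haveI := (preservesEpi_iff hP.flat (show q - 1 + 1 = q by lia)).1 hq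
  rw [dRank_eq_fibreRank P hP.flat rfl (show q - 1 + 1 = q by lia) x]
  exact (LinearEquiv.baseChange A x.asIdeal.ResidueField _ _
    (hom'EquivT (P := P) rfl (show q - 1 + 1 = q by lia))).finrank_eq

theorem subsingleton_T_of_tensor (M : ModuleCat.{u} A)
    (h : Subsingleton (CohIII.T P q (ModuleCat.of A A) ⊗[A] M)) : Subsingleton (CohIII.T P q M) :=
  @Function.Surjective.subsingleton _ _ _ h (bijective_tM_of_preservesEpi hP.flat hq M).2

end Epi

/-- A finite module whose tensor product with a field vanishes is killed near the point. -/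
theorem exists_smul_eq_zero {M : Type u} [AddCommGroup M] [Module A M] [Module.Finite A M]
    (x : PrimeSpectrum A) {K : Type u} [Field K] [Algebra A K] (hK : RingHom.ker (algebraMap A K) = x.asIdeal)
    (h : Subsingleton (M ⊗[A] K)) : ∃ r ∉ x.asIdeal, ∀ m : M, r • m = 0 := by
  let κ := x.asIdeal.ResidueField
  let ι : κ →+* K := Ideal.ResidueField.lift x.asIdeal (algebraMap A K) hK.ge
    fun a ha => isUnit_iff_ne_zero.2 fun h0 => ha (hK.le h0)
  letI := ι.toAlgebra
  haveI : IsScalarTower A κ K := .of_algebraMap_eq fun a =>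
    (Ideal.ResidueField.lift_algebraMap x.asIdeal (algebraMap A K) hK.ge _ a).symm
  have : Subsingleton (K ⊗[κ] (κ ⊗[A] M)) :=
    ((TensorProduct.AlgebraTensorModule.cancelBaseChange A κ K K M).toEquiv.trans
      (TensorProduct.comm A K M).toEquiv).subsingleton
  have hk : Subsingleton (κ ⊗[A] M) := by
    haveI := Module.FaithfullyFlat.subsingleton_tensorProduct_iff_right κ K |>.1 this
    infer_instance
  have : x ∉ Module.support A M := by
    rw [Module.notMem_support_iff']
    intro m
    by_contra hc
    refine not_nontrivial_iff_subsingleton.2 hk ?_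
    have hx : x ∈ Module.support A M := Module.mem_support_iff'.2 ⟨m, fun r hr h0 => hc ⟨r, hr, h0⟩⟩
    exact (Module.mem_support_iff_nontrivial_residueField_tensorProduct x).1 hx
  obtain ⟨s, hs⟩ := Module.Finite.fg_top (R := A) (M := M)
  choose r hr hr0 using fun m : s => Module.notMem_support_iff'.1 this m
  refine ⟨∏ m, r m, fun hp => ?_, fun m => ?_⟩
  · obtain ⟨m, -, hm⟩ := x.isPrime.prod_mem_iff.1 hp
    exact hr m hm
  · have hm : m ∈ Submodule.span A (s : Set M) := hs ▸ Submodule.mem_top
    induction hm using Submodule.span_induction with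
    | mem m hm =>
      obtain ⟨c, hc⟩ := Finset.dvd_prod_of_mem r (Finset.mem_univ (⟨m, hm⟩ : s))
      rw [hc, mul_comm, mul_smul, hr0 ⟨m, hm⟩, smul_zero]
    | zero => rw [smul_zero]
    | add a b _ _ ha hb => rw [smul_add, ha, hb, add_zero]
    | smul c a _ ha => rw [smul_comm, ha, smul_zero]

/-- Over a reduced ring constancy of the rank of the fibres gives both exchange properties. -/
theorem preservesEpi_of_isLocallyConstant (hP : IsModelCx P) [IsReduced A] {q : ℤ}
    (h : IsLocallyConstant (CohIII.dRank P q)) :
    (CohIII.TFun P q).PreservesEpimorphisms ∧ (CohIII.TFun P (q + 1)).PreservesEpimorphisms := by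
  have h1 : q + 1 = q + 1 := rfl
  have h0 : q - 1 + 1 = q := by lia
  have := hP.fin q
  have := hP.fin (q - 1)
  have := hP.fp (q - 1)
  have := hP.flat (q - 1)
  haveI := finitePresentation_coker hP (q + 1) q
  haveI := finitePresentation_coker hP q (q - 1)
  have hd := dRank_add P hP.fin h1 h0
  have key : ∀ x : PrimeSpectrum A, ∀ᶠ y in nhds x,
      fibreRank (Coker P (q + 1) q) y = fibreRank (Coker P (q + 1) q) x ∧
        fibreRank (Coker P q (q - 1)) y = fibreRank (Coker P q (q - 1)) x := fun x => by
    filter_upwards [h.eventually_eq x, (isLocallyConstant_fibreRank (P.X (q - 1))).eventually_eq x,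
      upperSemicontinuous_fibreRank (Coker P (q + 1) q) x _ (Nat.lt_succ_self _),
      upperSemicontinuous_fibreRank (Coker P q (q - 1)) x _ (Nat.lt_succ_self _)] with y a b c d
    have := hd x
    have := hd y
    omega
  refine ⟨(preservesEpi_iff hP.flat h0).2 ?_, (preservesEpi_iff hP.flat h1).2 ?_⟩
  · exact flat_of_isLocallyConstant_fibreRank _
      ((IsLocallyConstant.iff_eventually_eq _).2 fun x => (key x).mono fun _ h => h.2)
  · exact flat_of_isLocallyConstant_fibreRank _
      ((IsLocallyConstant.iff_eventually_eq _).2 fun x => (key x).mono fun _ h => h.1)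

end Groth.Agent.CohH33
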