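import Mathlib.AlgebraicGeometry.Normalization
import Mathlib.AlgebraicGeometry.Morphisms.Finite
import Mathlib.RingTheory.IntegralClosure.Algebra.Basic

/-! Finite morphisms to a quasi-compact open of an affine scheme extend to a finite algebra. -/

set_option autoImplicit false
universe u
open CategoryTheory Limits AlgebraicGeometry TopologicalSpace

namespace Groth.Agent.CohH33

lemma isPullback_normalization {S : Scheme.{u}} {U : S.Opens} {U' : Scheme.{u}}
    (g : U' ⟶ (U : Scheme.{u})) [IsFinite g] [QuasiCompact U.ι] :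
    IsPullback (g ≫ U.ι).toNormalization g (g ≫ U.ι).fromNormalization U.ι ∧
      IsOpenImmersion (g ≫ U.ι).toNormalization := by
  haveI hfst : IsIso (pullback.fst (g ≫ U.ι) U.ι) := by
    refine ⟨pullback.lift (𝟙 U') g (by rw [Category.id_comp]), pullback.hom_ext
      (by rw [Category.assoc, pullback.lift_fst, Category.comp_id, Category.id_comp]) ?_, pullback.lift_fst _ _ _⟩
    rw [Category.assoc, pullback.lift_snd, Category.id_comp, ← cancel_mono U.ι]
    simpa using pullback.condition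
  have hsnd : pullback.snd (g ≫ U.ι) U.ι = pullback.fst (g ≫ U.ι) U.ι ≫ g := by
    rw [← cancel_mono U.ι, Category.assoc, ← pullback.condition]
  haveI : IsIntegralHom (pullback.snd (g ≫ U.ι) U.ι) := by rw [hsnd]; infer_instance
  let e : U' ⟶ pullback (g ≫ U.ι).fromNormalization U.ι :=
    inv (pullback.fst (g ≫ U.ι) U.ι) ≫ (pullback.snd (g ≫ U.ι) U.ι).toNormalization ≫
      (g ≫ U.ι).normalizationPullback U.ι
  haveI : IsIso e := inferInstance
  have h1 : (g ≫ U.ι).toNormalization = e ≫ pullback.fst _ _ := by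
    simp only [e, Category.assoc, Scheme.Hom.toNormalization_normalizationPullback_fst]
    rw [IsIso.inv_hom_id_assoc]
  haveI : IsOpenImmersion (g ≫ U.ι).toNormalization := by rw [h1]; infer_instance
  refine ⟨IsPullback.of_iso_pullback ⟨?_⟩ (asIso e) h1.symm ?_, inferInstance⟩
  · rw [Scheme.Hom.toNormalization_fromNormalization]
  · rw [← cancel_mono U.ι, asIso_hom, Category.assoc, ← pullback.condition, ← Category.assoc, ← h1,
      Scheme.Hom.toNormalization_fromNormalization]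

lemma exists_finite_basicOpen_cover {S : Scheme.{u}} [IsAffine S] (U : S.Opens) (hU : IsCompact (U : Set S)) :
    ∃ t : Finset Γ(S, ⊤), (∀ r ∈ t, S.basicOpen r ≤ U) ∧
      (U : Set S) ⊆ ⋃ r ∈ t, (S.basicOpen r : Set S) := by
  classical
  have hcov : (U : Set S) ⊆ ⋃ r : {r : Γ(S, ⊤) // S.basicOpen r ≤ U}, (S.basicOpen r.1 : Set S) := by
    intro x hx
    obtain ⟨r, hr, hxr⟩ := (isAffineOpen_top S).exists_basicOpen_le (⟨x, hx⟩ : U) trivial
    exact Set.mem_iUnion.2 ⟨⟨r, hr⟩, hxr⟩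
  obtain ⟨t, ht⟩ := hU.elim_finite_subcover
    (fun r : {r : Γ(S, ⊤) // S.basicOpen r ≤ U} => (S.basicOpen r.1 : Set S))
    (fun r => (S.basicOpen r.1).2) hcov
  refine ⟨t.image Subtype.val, ?_, fun x hx => ?_⟩
  · intro r hr
    obtain ⟨r', -, rfl⟩ := Finset.mem_image.1 hr
    exact r'.2
  · obtain ⟨r, hr, hxr⟩ := Set.mem_iUnion₂.1 (ht hx)
    exact Set.mem_iUnion₂.2 ⟨r.1, Finset.mem_image_of_mem _ hr, hxr⟩

/-- Numerators of module generators over a basic open. -/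
lemma exists_generators {N S : Scheme.{u}} [IsAffine N] (h : N ⟶ S)
    (r : Γ(S, ⊤)) (hfin : (h.app (S.basicOpen r)).hom.Finite) :
    ∃ s : Finset Γ(N, ⊤), ∀ (y : Γ(N, h ⁻¹ᵁ S.basicOpen r)) (R : Subring Γ(N, h ⁻¹ᵁ S.basicOpen r)),
      (∀ a, (h.app (S.basicOpen r)).hom a ∈ R) →
      (∀ c ∈ s, (N.presheaf.map (homOfLE (le_top : h ⁻¹ᵁ S.basicOpen r ≤ ⊤)).op).hom c ∈ R) → y ∈ R := by
  classical
  letI := (N.presheaf.map (homOfLE (le_top : h ⁻¹ᵁ S.basicOpen r ≤ ⊤)).op).hom.toAlgebra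
  haveI : IsLocalization.Away (h.appTop.hom r) Γ(N, h ⁻¹ᵁ S.basicOpen r) :=
    (isAffineOpen_top _).isLocalization_of_eq_basicOpen _ _ (Scheme.preimage_basicOpen_top h r)
  choose c hc using fun z : Γ(N, h ⁻¹ᵁ S.basicOpen r) =>
    IsLocalization.surj (Submonoid.powers (h.appTop.hom r)) z
  obtain ⟨v, hv⟩ : IsUnit ((S.presheaf.map (homOfLE (le_top : S.basicOpen r ≤ ⊤)).op).hom r) :=
    RingedSpace.isUnit_res_basicOpen _ r
  have hnat : algebraMap Γ(N, ⊤) Γ(N, h ⁻¹ᵁ S.basicOpen r) (h.appTop.hom r) =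
      (h.app (S.basicOpen r)).hom v.val := by
    rw [hv]
    exact (congr($(h.naturality (homOfLE (le_top : S.basicOpen r ≤ ⊤)).op).hom r)).symm
  letI := (h.app (S.basicOpen r)).hom.toAlgebra
  obtain ⟨G, hG⟩ := hfin.fg_top
  refine ⟨G.image fun z => (c z).1, fun y R hR hs => ?_⟩
  have hy : y ∈ Submodule.span Γ(S, S.basicOpen r) (G : Set _) := by rw [hG]; trivial
  induction hy using Submodule.span_induction with
  | zero => exact R.zero_mem
  | add _ _ _ _ h1 h2 => exact R.add_mem h1 h2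
  | smul a x _ hx => exact R.mul_mem (hR a) hx
  | mem z hz =>
    obtain ⟨n, hn⟩ := (c z).2.2
    have h4 := hc z
    rw [show ((c z).2 : Γ(N, ⊤)) = h.appTop.hom r ^ n from hn.symm, map_pow, hnat, ← map_pow,
      ← Units.val_pow_eq_pow_val] at h4
    have h7 : z = algebraMap Γ(N, ⊤) Γ(N, h ⁻¹ᵁ S.basicOpen r) (c z).1 *
        (h.app (S.basicOpen r)).hom ((v ^ n)⁻¹).val := by
      rw [← h4, mul_assoc, ← map_mul, Units.mul_inv, map_one, mul_one]
    rw [h7]
    exact R.mul_mem (hs _ (Finset.mem_image_of_mem _ hz)) (hR _)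

/-- A morphism of affine schemes, injective on global sections, is an isomorphism over a basic open if
its image of sections contains generators. -/
lemma bijective_app_basicOpen {N Y : Scheme.{u}} [IsAffine N] [IsAffine Y] (k : N ⟶ Y)
    (hinj : Function.Injective k.appTop.hom) (b : Γ(Y, ⊤)) :
    Function.Injective (k.app (Y.basicOpen b)).hom := by
  letI := (Y.presheaf.map (homOfLE (le_top : Y.basicOpen b ≤ ⊤)).op).hom.toAlgebra
  haveI : IsLocalization.Away b Γ(Y, Y.basicOpen b) :=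
    (isAffineOpen_top _).isLocalization_of_eq_basicOpen _ _ rfl
  letI := (N.presheaf.map (homOfLE (le_top : k ⁻¹ᵁ Y.basicOpen b ≤ ⊤)).op).hom.toAlgebra
  haveI : IsLocalization.Away (k.appTop.hom b) Γ(N, k ⁻¹ᵁ Y.basicOpen b) :=
    (isAffineOpen_top _).isLocalization_of_eq_basicOpen _ _ (Scheme.preimage_basicOpen_top k b)
  refine (injective_iff_map_eq_zero _).2 fun x hx => ?_
  obtain ⟨⟨y, ⟨_, n, rfl⟩⟩, hy⟩ := IsLocalization.surj (Submonoid.powers b) x
  have nat : (k.app (Y.basicOpen b)).hom (algebraMap Γ(Y, ⊤) Γ(Y, Y.basicOpen b) y) =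
      algebraMap Γ(N, ⊤) Γ(N, k ⁻¹ᵁ Y.basicOpen b) (k.appTop.hom y) :=
    congr($(k.naturality (homOfLE (le_top : Y.basicOpen b ≤ ⊤)).op).hom y)
  have h1 := congrArg (k.app (Y.basicOpen b)).hom hy
  rw [map_mul, hx, zero_mul, nat] at h1
  obtain ⟨⟨_, m, rfl⟩, hm⟩ :=
    (IsLocalization.map_eq_zero_iff (Submonoid.powers (k.appTop.hom b)) _ _).1 h1.symm
  have h2 : b ^ m * y = 0 := hinj (by rw [map_mul, map_pow, map_zero]; exact hm)
  have h3 : algebraMap Γ(Y, ⊤) Γ(Y, Y.basicOpen b) y = 0 :=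
    (IsLocalization.map_eq_zero_iff (Submonoid.powers b) _ _).2 ⟨⟨_, m, rfl⟩, h2⟩
  rw [h3] at hy
  exact ((IsLocalization.map_units Γ(Y, Y.basicOpen b)
    (⟨b ^ n, n, rfl⟩ : Submonoid.powers b)).mul_left_eq_zero).1 hy

lemma surjective_app_of_generators {N Y S : Scheme.{u}} (k : N ⟶ Y) (q : Y ⟶ S) (h : N ⟶ S)
    (hk : k ≫ q = h) (D : S.Opens) (s : Set Γ(N, ⊤))
    (hs : ∀ (y : Γ(N, h ⁻¹ᵁ D)) (R : Subring Γ(N, h ⁻¹ᵁ D)),
      (∀ a, (h.app D).hom a ∈ R) →
      (∀ c ∈ s, (N.presheaf.map (homOfLE (le_top : h ⁻¹ᵁ D ≤ ⊤)).op).hom c ∈ R) → y ∈ R)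
    (hc : ∀ c ∈ s, c ∈ k.appTop.hom.range) :
    Function.Surjective (k.app (q ⁻¹ᵁ D)).hom := by
  subst hk
  intro y
  refine hs y (k.app (q ⁻¹ᵁ D)).hom.range (fun a => ⟨(q.app D).hom a, ?_⟩) (fun c hcs => ?_)
  · rw [Scheme.Hom.comp_app]
    rfl
  · obtain ⟨b, rfl⟩ := hc c hcs
    exact ⟨_, congr($(k.naturality (homOfLE (le_top : q ⁻¹ᵁ D ≤ ⊤)).op).hom b)⟩

lemma isIso_restrict_of_subring {S N : Scheme.{u}} [IsAffine S] [IsAffine N] (h : N ⟶ S)
    {B : CommRingCat.{u}} (a : Γ(S, ⊤) ⟶ B) (v : B ⟶ Γ(N, ⊤)) (hav : a ≫ v = h.appTop)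
    (hv : Function.Injective v.hom) (t : Finset Γ(S, ⊤)) (U : S.Opens) (ht : ∀ r ∈ t, S.basicOpen r ≤ U)
    (htU : (U : Set S) ⊆ ⋃ r ∈ t, (S.basicOpen r : Set S))
    (hgen : ∀ r ∈ t, ∃ s : Set Γ(N, ⊤), s ⊆ Set.range v.hom ∧
      ∀ (y : Γ(N, h ⁻¹ᵁ S.basicOpen r)) (R : Subring Γ(N, h ⁻¹ᵁ S.basicOpen r)),
        (∀ a, (h.app (S.basicOpen r)).hom a ∈ R) →
        (∀ c ∈ s, (N.presheaf.map (homOfLE (le_top : h ⁻¹ᵁ S.basicOpen r ≤ ⊤)).op).hom c ∈ R) → y ∈ R) :
    (N.toSpecΓ ≫ Spec.map v) ≫ Spec.map a ≫ S.isoSpec.inv = h ∧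
      IsIso ((N.toSpecΓ ≫ Spec.map v) ∣_ ((Spec.map a ≫ S.isoSpec.inv) ⁻¹ᵁ U)) := by
  have hk : (N.toSpecΓ ≫ Spec.map v) ≫ Spec.map a ≫ S.isoSpec.inv = h := by
    rw [Category.assoc, ← Category.assoc (Spec.map v), ← Spec.map_comp, hav,
      ← Scheme.toSpecΓ_naturality_assoc, Scheme.toSpecΓ_isoSpec_inv, Category.comp_id]
  refine ⟨hk, ?_⟩
  have hktop : (N.toSpecΓ ≫ Spec.map v).appTop = (Scheme.ΓSpecIso B).hom ≫ v := by
    rw [Scheme.Hom.comp_appTop, Scheme.toSpecΓ_appTop, Scheme.ΓSpecIso_naturality]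
  have hinj : Function.Injective (N.toSpecΓ ≫ Spec.map v).appTop.hom := by
    rw [hktop, CommRingCat.hom_comp, RingHom.coe_comp]
    exact hv.comp (ConcreteCategory.bijective_of_isIso _).1
  generalize N.toSpecΓ ≫ Spec.map v = k at *
  generalize Spec.map a ≫ S.isoSpec.inv = q at *
  haveI : IsAffineHom k := isAffineHom_of_isAffine k
  haveI : IsAffineHom q := isAffineHom_of_isAffine q
  have hiso : ∀ r ∈ t, IsIso (k ∣_ (q ⁻¹ᵁ S.basicOpen r)) := by
    intro r hr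
    obtain ⟨s, hsv, hs⟩ := hgen r hr
    rw [isIso_morphismRestrict_iff_isIso_app k (((isAffineOpen_top S).basicOpen r).preimage q),
      ConcreteCategory.isIso_iff_bijective]
    refine ⟨?_, surjective_app_of_generators k q h hk _ s hs fun c hc => ?_⟩
    · rw [Scheme.preimage_basicOpen_top q r]
      exact bijective_app_basicOpen k hinj _
    · obtain ⟨b, rfl⟩ := hsv hc
      refine ⟨(Scheme.ΓSpecIso B).inv.hom b, ?_⟩
      rw [hktop, ← RingHom.comp_apply, ← CommRingCat.hom_comp, Iso.inv_hom_id_assoc]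
  refine (IsZariskiLocalAtTarget.iff_of_iSup_eq_top (P := MorphismProperty.isomorphisms Scheme.{u})
    (fun r : {r // r ∈ t} => (q ⁻¹ᵁ U).ι ⁻¹ᵁ (q ⁻¹ᵁ S.basicOpen r.1)) ?_).2 fun r => ?_
  · refine top_le_iff.1 fun z _ => ?_
    obtain ⟨r, hr, hzr⟩ := Set.mem_iUnion₂.1 (htU z.2)
    exact Opens.mem_iSup.2 ⟨⟨r, hr⟩, hzr⟩
  · refine (MorphismProperty.arrow_mk_iso_iff (MorphismProperty.isomorphisms Scheme.{u})
      (morphismRestrictRestrict k _ _ ≪≫ morphismRestrictEq k ?_)).2 (hiso r.1 r.2)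
    rw [Scheme.Hom.image_preimage_eq_opensRange_inf, Scheme.Opens.opensRange_ι]
    exact inf_eq_right.2 fun z hz => ht r.1 r.2 hz

lemma exists_finite_algebra {S N : Scheme.{u}} [IsAffine S] [IsAffine N] (h : N ⟶ S) [IsIntegralHom h]
    (U : S.Opens) (hU : IsCompact (U : Set S))
    (hfin : ∀ r : Γ(S, ⊤), S.basicOpen r ≤ U → (h.app (S.basicOpen r)).hom.Finite) :
    ∃ (B : Type u) (_ : CommRing B) (_ : Algebra Γ(S, ⊤) B) (k : N ⟶ Spec (CommRingCat.of B)),
      Module.Finite Γ(S, ⊤) B ∧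
      k ≫ Spec.map (CommRingCat.ofHom (algebraMap Γ(S, ⊤) B)) ≫ S.isoSpec.inv = h ∧
      IsIso (k ∣_ ((Spec.map (CommRingCat.ofHom (algebraMap Γ(S, ⊤) B)) ≫ S.isoSpec.inv) ⁻¹ᵁ U)) := by
  classical
  letI : Algebra Γ(S, ⊤) Γ(N, ⊤) := h.appTop.hom.toAlgebra
  haveI : Algebra.IsIntegral Γ(S, ⊤) Γ(N, ⊤) := ⟨h.isIntegral_app ⊤ (isAffineOpen_top S)⟩
  obtain ⟨t, ht, htU⟩ := exists_finite_basicOpen_cover U hU
  choose s hs using fun r (hr : r ∈ t) => exists_generators h r (hfin r (ht r hr))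
  let B : Subalgebra Γ(S, ⊤) Γ(N, ⊤) :=
    Algebra.adjoin Γ(S, ⊤) (↑(t.attach.biUnion fun r => s r.1 r.2) : Set Γ(N, ⊤))
  have hBfin : Module.Finite Γ(S, ⊤) B :=
    Module.Finite.iff_fg.2 (fg_adjoin_of_finite (Finset.finite_toSet _)
      fun x _ => Algebra.IsIntegral.isIntegral x)
  have hgen : ∀ r ∈ t, ∃ σ : Set Γ(N, ⊤), σ ⊆ Set.range (CommRingCat.ofHom B.val.toRingHom).hom ∧
      ∀ (y : Γ(N, h ⁻¹ᵁ S.basicOpen r)) (R : Subring Γ(N, h ⁻¹ᵁ S.basicOpen r)),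
        (∀ a, (h.app (S.basicOpen r)).hom a ∈ R) →
        (∀ c ∈ σ, (N.presheaf.map (homOfLE (le_top : h ⁻¹ᵁ S.basicOpen r ≤ ⊤)).op).hom c ∈ R) → y ∈ R :=
    fun r hr => ⟨↑(s r hr), fun c hc => ⟨⟨c, Algebra.subset_adjoin
      (Finset.mem_biUnion.2 ⟨⟨r, hr⟩, Finset.mem_attach _ _, hc⟩)⟩, rfl⟩, hs r hr⟩
  obtain ⟨h1, h2⟩ := isIso_restrict_of_subring h (B := CommRingCat.of B)
    (CommRingCat.ofHom (algebraMap Γ(S, ⊤) B)) (CommRingCat.ofHom B.val.toRingHom) (by ext x; rfl)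
    Subtype.val_injective t U ht htU hgen
  exact ⟨B, inferInstance, inferInstance, _, hBfin, h1, h2⟩

set_option backward.isDefEq.respectTransparency.types false in
theorem exists_finite_extend {S : Scheme.{u}} [IsAffine S] {U : S.Opens} (hU : IsCompact (U : Set S))
    {U' : Scheme.{u}} (g : U' ⟶ (U : Scheme.{u})) [IsFinite g] :
    ∃ (B : Type u) (_ : CommRing B) (_ : Algebra Γ(S, ⊤) B) (i : U' ⟶ Spec (CommRingCat.of B)),
      Module.Finite Γ(S, ⊤) B ∧
        IsPullback i g (Spec.map (CommRingCat.ofHom (algebraMap Γ(S, ⊤) B)) ≫ S.isoSpec.inv) U.ι := by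
  haveI : CompactSpace ↥(U : Scheme.{u}) := isCompact_iff_compactSpace.1 hU
  haveI : QuasiCompact U.ι := inferInstance
  obtain ⟨hpb, hopen⟩ := isPullback_normalization g
  haveI : IsAffine (g ≫ U.ι).normalization := isAffine_of_isAffineHom (g ≫ U.ι).fromNormalization
  have hrange : (g ≫ U.ι).toNormalization.opensRange = (g ≫ U.ι).fromNormalization ⁻¹ᵁ U := by
    refine TopologicalSpace.Opens.ext (Set.ext fun z => ⟨?_, fun hz => ?_⟩)
    · rintro ⟨w, rfl⟩
      show ((g ≫ U.ι).toNormalization ≫ (g ≫ U.ι).fromNormalization) w ∈ U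
      rw [Scheme.Hom.toNormalization_fromNormalization]
      exact (g w).2
    · obtain ⟨v, hv, -⟩ := Scheme.exists_preimage_of_isPullback hpb z ⟨_, hz⟩ rfl
      exact ⟨v, hv⟩
  let e := IsOpenImmersion.isoOfRangeEq (g ≫ U.ι).toNormalization
    ((g ≫ U.ι).fromNormalization ⁻¹ᵁ U).ι (by rw [Scheme.Opens.range_ι, ← hrange]; rfl)
  have he : e.hom ≫ ((g ≫ U.ι).fromNormalization ∣_ U) = g := by
    rw [← cancel_mono U.ι, Category.assoc, morphismRestrict_ι, IsOpenImmersion.isoOfRangeEq_hom_fac_assoc,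
      Scheme.Hom.toNormalization_fromNormalization]
  haveI hRI : MorphismProperty.RespectsIso (@IsFinite.{u}) :=
    MorphismProperty.IsStableUnderBaseChange.respectsIso
  haveI : IsFinite ((g ≫ U.ι).fromNormalization ∣_ U) := by
    rw [← MorphismProperty.cancel_left_of_respectsIso (@IsFinite.{u}) e.hom, he]
    infer_instance
  have hfin : ∀ r : Γ(S, ⊤), S.basicOpen r ≤ U →
      ((g ≫ U.ι).fromNormalization.app (S.basicOpen r)).hom.Finite := by
    intro r hr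
    set D := S.basicOpen r
    haveI : IsFinite ((g ≫ U.ι).fromNormalization ∣_ D) := by
      have heq : U.ι ''ᵁ (U.ι ⁻¹ᵁ D) = D := by
        rw [Scheme.Hom.image_preimage_eq_opensRange_inf, Scheme.Opens.opensRange_ι]
        exact inf_eq_right.2 hr
      exact (MorphismProperty.arrow_mk_iso_iff (@IsFinite.{u})
        (morphismRestrictRestrict _ _ _ ≪≫ morphismRestrictEq _ heq)).1
        (IsZariskiLocalAtTarget.restrict (P := @IsFinite.{u}) (f := (g ≫ U.ι).fromNormalization ∣_ U) inferInstance _)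
    haveI : IsAffine D := (isAffineOpen_top S).basicOpen r
    have h2 := ((g ≫ U.ι).fromNormalization ∣_ D).finite_appTop
    haveI := RingHom.toMorphismProperty_respectsIso_iff.1 RingHom.finite_respectsIso
    rw [morphismRestrict_appTop] at h2
    replace h2 : (((g ≫ U.ι).normalization.presheaf.map
      (eqToHom (image_morphismRestrict_preimage (g ≫ U.ι).fromNormalization D ⊤)).op).hom.comp
        ((g ≫ U.ι).fromNormalization.app (D.ι ''ᵁ ⊤)).hom).Finite := h2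
    have hb := ConcreteCategory.bijective_of_isIso ((g ≫ U.ι).normalization.presheaf.map
      (eqToHom (image_morphismRestrict_preimage (g ≫ U.ι).fromNormalization D ⊤)).op)
    have h3 := (RingHom.Finite.of_surjective (RingEquiv.ofBijective _ hb).symm.toRingHom
      (RingEquiv.ofBijective _ hb).symm.surjective).comp h2
    have h4 : ((g ≫ U.ι).fromNormalization.app (D.ι ''ᵁ ⊤)).hom.Finite := by
      convert h3 using 1
      ext x
      exact ((RingEquiv.ofBijective _ hb).symm_apply_apply _).symm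
    have h5 : D.ι ''ᵁ ⊤ = D := Scheme.Opens.ι_image_top D
    rw [h5] at h4
    exact h4
  obtain ⟨B, _, _, k, hB, hk, hiso⟩ := exists_finite_algebra (g ≫ U.ι).fromNormalization U hU hfin
  set q := Spec.map (CommRingCat.ofHom (algebraMap Γ(S, ⊤) B)) ≫ S.isoSpec.inv
  have hpre : (g ≫ U.ι).fromNormalization ⁻¹ᵁ U = k ⁻¹ᵁ (q ⁻¹ᵁ U) := by
    rw [← Scheme.Hom.comp_preimage, hk]
  let e' := e ≪≫ Scheme.isoOfEq _ hpre
  have hi : (g ≫ U.ι).toNormalization ≫ k = (e'.hom ≫ (k ∣_ (q ⁻¹ᵁ U))) ≫ (q ⁻¹ᵁ U).ι := by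
    simp only [e', e, Iso.trans_hom, Category.assoc, morphismRestrict_ι, Scheme.isoOfEq_hom_ι_assoc,
      IsOpenImmersion.isoOfRangeEq_hom_fac_assoc]
  haveI : IsOpenImmersion ((g ≫ U.ι).toNormalization ≫ k) := by rw [hi]; infer_instance
  refine ⟨B, inferInstance, inferInstance, (g ≫ U.ι).toNormalization ≫ k, hB,
    (IsOpenImmersion.isPullback g ((g ≫ U.ι).toNormalization ≫ k) U.ι q ?_ ?_).flip⟩
  · rw [Category.assoc, hk, Scheme.Hom.toNormalization_fromNormalization]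
  · rw [Scheme.Opens.opensRange_ι]
    refine TopologicalSpace.Opens.ext ?_
    have hr : Set.range ((g ≫ U.ι).toNormalization ≫ k) = (q ⁻¹ᵁ U : Set _) := by
      conv_lhs => rw [hi, Scheme.Hom.comp_base, TopCat.coe_comp, Set.range_comp]
      have hs : Function.Surjective (e'.hom ≫ (k ∣_ (q ⁻¹ᵁ U))) :=
        (Scheme.homeoOfIso (asIso (e'.hom ≫ (k ∣_ (q ⁻¹ᵁ U))))).surjective
      rw [hs.range_eq, Set.image_univ, Scheme.Opens.range_ι]
    exact hr.symm

end Groth.Agent.CohH33
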