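import Groth.Agent.CohH33.BCFormula
import Groth.Agent.CohH33.ExchangeAlg
import Groth.Agent.QCoh.RpushExchange
import Groth.Agent.ConsPropLib.FibreLocFree

/-!
# Finite free models of the cohomology over affine opens of the base
-/

universe u

set_option backward.isDefEq.respectTransparency.types false
set_option maxHeartbeats 1000000
set_option maxRecDepth 4000
set_option linter.style.haveILetI false

open CategoryTheory AlgebraicGeometry AlgebraicGeometry.Scheme.Modules
open TopologicalSpace Opposite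
open Groth.Agent.QCoh
open scoped TensorProduct

namespace Groth.Agent.CohH33

variable {X S : Scheme.{u}}

/-- `P` computes `M ↦ H^p(f⁻¹V, F ⊗ M)` in all degrees. -/
structure HasModel (f : X ⟶ S) (F : X.Modules) {V : S.Opens} (hV : IsAffineOpen V)
    (P : ChainComplex (ModuleCat.{u} Γ(S, V)) ℤ) : Prop where
  cx : IsModelCx P
  iso : ∀ p : ℕ, Nonempty (LinModel f F hV p (CohIII.TFun P (-(p : ℤ))))

variable {f : X ⟶ S} [IsSeparated f] [QuasiCompact f] {F : X.Modules} (hF : Coh.IsQCoh F)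

theorem compactSpace_preimage {V : S.Opens} (hV : IsAffineOpen V) :
    CompactSpace ((f ⁻¹ᵁ V : X.Opens) : Scheme.{u}) :=
  isCompact_iff_compactSpace.1 (f.isCompact_preimage hV.isCompact)

theorem isSeparated_preimage {V : S.Opens} (hV : IsAffineOpen V) :
    ((f ⁻¹ᵁ V : X.Opens) : Scheme.{u}).IsSeparated := ⟨by
  haveI : IsSeparated (f ∣_ V) := IsZariskiLocalAtTarget.restrict ‹_› V
  haveI : IsSeparated (overSpec f hV) := by
    show IsSeparated ((f ∣_ V) ≫ hV.isoSpec.hom)
    infer_instance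
  rw [← Limits.terminal.comp_from (overSpec f hV)]
  infer_instance⟩

include hF in
/-- Models restrict to smaller affine opens. -/
theorem HasModel.restrict {V : S.Opens} {hV : IsAffineOpen V} {P : ChainComplex (ModuleCat.{u} Γ(S, V)) ℤ}
    (hP : HasModel f F hV P) {V' : S.Opens} (hV' : IsAffineOpen V') (hle : V' ≤ V) :
    HasModel f F hV' (CohIII.bcCx ((𝟙 S : S ⟶ S).appLE V V' (le_preimage_id hle)).hom P) := by
  let φ := ((𝟙 S : S ⟶ S).appLE V V' (le_preimage_id hle)).hom
  refine ⟨hP.cx.bc φ, fun p => ?_⟩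
  obtain ⟨e⟩ := hP.iso p
  haveI := compactSpace_preimage (f := f) hV
  haveI := isSeparated_preimage (f := f) hV
  letI : ((f ⁻¹ᵁ V : X.Opens) : Scheme.{u}).Over (Spec (CommRingCat.of Γ(S, V))) := ⟨overSpec f hV⟩
  letI : ((f ⁻¹ᵁ V' : X.Opens) : Scheme.{u}).Over (Spec (CommRingCat.of Γ(S, V'))) := ⟨overSpec f hV'⟩
  have hsq : IsPullback (𝟙 X) f f (𝟙 S) := IsPullback.of_horiz_isIso ⟨by simp⟩
  let k := (𝟙 X : X ⟶ X).resLE (f ⁻¹ᵁ V) (f ⁻¹ᵁ V') (le_sq hsq.w (le_preimage_id hle))
  have hk := isPullback_chart hsq hV hV' (le_preimage_id hle)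
  obtain ⟨e₁⟩ := nonempty_HAb_bc_iso (A := Γ(S, V)) (B := Γ(S, V')) φ k hk (isQCoh_restrict (f ⁻¹ᵁ V).ι hF) p
  obtain ⟨e₂⟩ := nonempty_bcT_iso P φ (-(p : ℤ))
  let iso : (pullback k).obj (F.restrict (f ⁻¹ᵁ V).ι) ≅ F.restrict (f ⁻¹ᵁ V').ι :=
    CohPull.pullOnIso (𝟙 X) _ _ (le_sq hsq.w (le_preimage_id hle)) F ≪≫
      (restrictFunctor (f ⁻¹ᵁ V').ι).mapIso ((pullbackId X).app F)
  let eT : CohIII.tensorAFunctor Γ(S, V') ((pullback k).obj (F.restrict (f ⁻¹ᵁ V).ι)) ≅
      CohIII.tensorAFunctor Γ(S, V') (F.restrict (f ⁻¹ᵁ V').ι) :=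
    Functor.isoWhiskerLeft _ (Functor.isoWhiskerLeft _ (Functor.isoWhiskerLeft DCoh.toP
      (Functor.isoWhiskerRight ((MonoidalCategory.tensoringRight (CohB1.PMod _)).mapIso
        (DCoh.toP.mapIso iso)) DCoh.shP)))
  exact ⟨e₂ ≪≫ Functor.isoWhiskerLeft _ e ≪≫ e₁.symm ≪≫ Functor.isoWhiskerRight eT _⟩

/-- The fibre sits in a cartesian square over an affine open. -/
theorem exists_fibre_square {V : S.Opens} (hV : IsAffineOpen V) {y : S} (hy : y ∈ V) (F : X.Modules) :
    ∃ k : f.fiber y ⟶ (f ⁻¹ᵁ V : X.Opens).toScheme,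
      IsPullback k (f.fiberToSpecResidueField y) (overSpec f hV) (Spec.map (CommRingCat.ofHom (evalV y hy))) ∧
        Nonempty ((pullback k).obj (F.restrict (f ⁻¹ᵁ V).ι) ≅ CohIII.fiberMod f F y) := by
  let U := f ⁻¹ᵁ V
  let φ := evalV y hy
  have hpb := isPullback_overSpec (f := f) hV
  have hφ : Spec.map (CommRingCat.ofHom φ) ≫ hV.fromSpec = S.fromSpecResidueField y := by
    show Spec.map (S.presheaf.germ V y hy ≫ S.residue y) ≫ _ = _
    rw [Spec.map_comp, Category.assoc, Scheme.fromSpecResidueField]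
    exact congrArg (Spec.map (S.residue y) ≫ ·) (hV.fromSpecStalk_eq_fromSpecStalk hy)
  have hbig : IsPullback (f.fiberι y) (f.fiberToSpecResidueField y) f
      (Spec.map (CommRingCat.ofHom φ) ≫ hV.fromSpec) := by
    have h0 : IsPullback (f.fiberι y) (f.fiberToSpecResidueField y) f (S.fromSpecResidueField y) :=
      IsPullback.of_hasPullback _ _
    exact hφ.symm ▸ h0
  let k : f.fiber y ⟶ (U : Scheme.{u}) :=
    hpb.lift (f.fiberι y) (f.fiberToSpecResidueField y ≫ Spec.map (CommRingCat.ofHom φ))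
      (by rw [Category.assoc]; exact hbig.w)
  have hk : k ≫ U.ι = f.fiberι y := hpb.lift_fst _ _ _
  refine ⟨k, IsPullback.of_right (by rw [hk]; exact hbig) (hpb.lift_snd _ _ _) hpb, ?_⟩
  exact ⟨(pullback k).mapIso ((restrictFunctorIsoPullback U.ι).app F) ≪≫
    (pullbackComp k U.ι).app F ≪≫ (pullbackCongr hk).app F⟩

include hF in
/-- Cohomology of the fibre through the model. -/
theorem HasModel.fiberRank_eq {V : S.Opens} {hV : IsAffineOpen V} {P : ChainComplex (ModuleCat.{u} Γ(S, V)) ℤ}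
    (hP : HasModel f F hV P) {y : S} (hy : y ∈ V) (p : ℕ) :
    CohIII.fiberRank f F p y = CohIII.dRank P (-(p : ℤ)) (hV.primeIdealOf ⟨y, hy⟩) ∧
      Module.Finite (S.residueField y) (CohIII.fiberH f F y p) := by
  haveI := compactSpace_preimage (f := f) hV
  haveI := isSeparated_preimage (f := f) hV
  let U := f ⁻¹ᵁ V
  let φ := evalV y hy
  letI : (U : Scheme.{u}).Over (Spec (CommRingCat.of Γ(S, V))) := ⟨overSpec f hV⟩
  letI : (f.fiber y).Over (Spec (CommRingCat.of (S.residueField y))) := ⟨f.fiberToSpecResidueField y⟩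
  obtain ⟨k, hk, ⟨eF⟩⟩ := exists_fibre_square (f := f) hV hy F
  obtain ⟨e₂⟩ := bcCx_isBCModel_aux (isQCoh_restrict U.ι hF) P hP.iso φ k hk p
  let e : CohIII.fiberH f F y p ≃ₗ[S.residueField y] ((CohIII.bcCx φ P).homology (-(p : ℤ))) :=
    (HHcongr (A := S.residueField y)
      (Coh.toGlobal (A := S.residueField y) (f.fiberToSpecResidueField y)) eF p).symm.trans e₂
  haveI := finite_homology_bc φ P hP.cx.fin (-(p : ℤ))
  exact ⟨(LinearEquiv.finrank_eq e).trans (finrank_bc_eq_dRank φ P _ (ker_evalV hV hy) _),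
    Module.Finite.equiv e.symm⟩

omit [IsSeparated f] [QuasiCompact f] in
include hF in
/-- The value of the model at an algebra in terms of a cartesian square. -/
theorem HasModel.nonempty_T_of_square {V : S.Opens} {hV : IsAffineOpen V}
    {P : ChainComplex (ModuleCat.{u} Γ(S, V)) ℤ} (hP : HasModel f F hV P) {K : Type u} [CommRing K]
    (φ : Γ(S, V) →+* K) {Y : Scheme.{u}} (k : Y ⟶ (f ⁻¹ᵁ V : X.Opens).toScheme)
    (pB : Y ⟶ Spec (CommRingCat.of K))
    (hk : IsPullback k pB (overSpec f hV) (Spec.map (CommRingCat.ofHom φ))) {N : Y.Modules}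
    (eN : (pullback k).obj (F.restrict (f ⁻¹ᵁ V).ι) ≅ N) (p : ℕ) :
    letI := φ.toAlgebra
    Nonempty (CohIII.T P (-(p : ℤ)) (ModuleCat.of Γ(S, V) K) ≃+ Coh.HH Y N p) := by
  letI := φ.toAlgebra
  letI : ((f ⁻¹ᵁ V : X.Opens) : Scheme.{u}).Over (Spec (CommRingCat.of Γ(S, V))) := ⟨overSpec f hV⟩
  obtain ⟨e⟩ := hP.iso p
  obtain ⟨-, Λ, -⟩ := exists_tM_model (F.restrict (f ⁻¹ᵁ V).ι) (isQCoh_restrict (f ⁻¹ᵁ V).ι hF) k pB hk p
    (CohIII.TFun P (-(p : ℤ))) e
  exact ⟨Λ.trans (hIso ((SheafOfModules.toSheaf _).map eN.hom) p)⟩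

include hF in
/-- The value of the model at the residue field of a point. -/
theorem HasModel.nonempty_T_residue {V : S.Opens} {hV : IsAffineOpen V}
    {P : ChainComplex (ModuleCat.{u} Γ(S, V)) ℤ} (hP : HasModel f F hV P) {y : S} (hy : y ∈ V) (p : ℕ) :
    letI : Algebra Γ(S, V) (S.residueField y) := (evalV y hy).toAlgebra
    Nonempty (CohIII.T P (-(p : ℤ)) (ModuleCat.of Γ(S, V) (S.residueField y)) ≃+ CohIII.fiberH f F y p) := by
  obtain ⟨k, hk, ⟨eF⟩⟩ := exists_fibre_square (f := f) hV hy F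
  exact hP.nonempty_T_of_square hF (evalV y hy) k (f.fiberToSpecResidueField y) hk eF p

theorem exists_flat_of_away {A : Type u} [CommRing A] (r : A) (B : Type u) [CommRing B] [Algebra A B]
    [IsLocalization.Away r B] (C : Type u) [AddCommGroup C] [Module A C]
    (h : Module.Flat (Localization.Away r) (Localization.Away r ⊗[A] C)) : Module.Flat B (B ⊗[A] C) := by
  let ψ : Localization.Away r →+* B := IsLocalization.lift (M := Submonoid.powers r) (g := algebraMap A B)
    (IsLocalization.map_units B)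
  letI := ψ.toAlgebra
  haveI : IsScalarTower A (Localization.Away r) B := .of_algebraMap_eq fun a => (IsLocalization.lift_eq _ a).symm
  exact Module.Flat.of_linearEquiv (TensorProduct.AlgebraTensorModule.cancelBaseChange A (Localization.Away r) B B C).symm

/-- The exchange property holds near a point for the functor in degree `q`. -/
def EpiAt (f : X ⟶ S) (F : X.Modules) (q : ℤ) (y : S) : Prop :=
  ∃ (V : S.Opens) (hV : IsAffineOpen V) (P : ChainComplex (ModuleCat.{u} Γ(S, V)) ℤ),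
    y ∈ V ∧ HasModel f F hV P ∧ (CohIII.TFun P q).PreservesEpimorphisms

include hF in
/-- Surjectivity at a point gives an affine neighbourhood on which the exchange property holds. -/
theorem HasModel.exists_preservesEpi_nhd {V : S.Opens} {hV : IsAffineOpen V}
    {P : ChainComplex (ModuleCat.{u} Γ(S, V)) ℤ} (hP : HasModel f F hV P) {y : S} (hy : y ∈ V) {q : ℤ}
    {K : Type u} [Field K] [Algebra Γ(S, V) K]
    (hK : RingHom.ker (algebraMap Γ(S, V) K) = (hV.primeIdealOf ⟨y, hy⟩).asIdeal)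
    (h : Function.Surjective (FlatCxLib.tM (CohIII.TFun P q) (ModuleCat.of Γ(S, V) K))) :
    ∃ (V' : S.Opens) (hV' : IsAffineOpen V') (hle : V' ≤ V), y ∈ V' ∧
      HasModel f F hV' (CohIII.bcCx ((𝟙 S : S ⟶ S).appLE V V' (le_preimage_id hle)).hom P) ∧
      (CohIII.TFun (CohIII.bcCx ((𝟙 S : S ⟶ S).appLE V V' (le_preimage_id hle)).hom P) q).PreservesEpimorphisms := by
  obtain ⟨r, hr, hflat⟩ := exists_flat_coker_away hP.cx (hV.primeIdealOf ⟨y, hy⟩) hK h
  refine ⟨S.basicOpen r, hV.basicOpen r, S.basicOpen_le r, (mem_basicOpen_iff_notMem hV hy r).2 hr,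
    hP.restrict hF (hV.basicOpen r) (S.basicOpen_le r), ?_⟩
  haveI := hV.isLocalization_basicOpen r
  have e : ((𝟙 S : S ⟶ S).appLE V (S.basicOpen r) (le_preimage_id (S.basicOpen_le r))).hom =
      algebraMap Γ(S, V) Γ(S, S.basicOpen r) := by
    simp only [Scheme.Hom.appLE, Scheme.Hom.id_app, Category.id_comp]
    rfl
  rw [e]
  exact (FlatCxLib.preservesEpi_bcCx_iff P hP.cx.flat (show q - 1 + 1 = q by lia)).2
    (exists_flat_of_away r _ _ hflat)

theorem preservesEpi_restrict {V : S.Opens} {hV : IsAffineOpen V} {P : ChainComplex (ModuleCat.{u} Γ(S, V)) ℤ}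
    (hP : HasModel f F hV P) {V' : S.Opens} (hle : V' ≤ V) {q : ℤ}
    (h : (CohIII.TFun P q).PreservesEpimorphisms) :
    (CohIII.TFun (CohIII.bcCx ((𝟙 S : S ⟶ S).appLE V V' (le_preimage_id hle)).hom P) q).PreservesEpimorphisms := by
  letI := ((𝟙 S : S ⟶ S).appLE V V' (le_preimage_id hle)).hom.toAlgebra
  exact preservesEpi_bc_of_preservesEpi hP.cx h

section fibre

theorem ker_appLE_fromSpecResidueField {V : S.Opens} (hV : IsAffineOpen V) {y : S} (hy : y ∈ V)
    (hle : (⊤ : (Spec (S.residueField y)).Opens) ≤ S.fromSpecResidueField y ⁻¹ᵁ V) :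
    RingHom.ker ((S.fromSpecResidueField y).appLE V ⊤ hle).hom = (hV.primeIdealOf ⟨y, hy⟩).asIdeal := by
  let g := S.fromSpecResidueField y
  ext a
  have hb := Scheme.basicOpen_appLE g ⊤ V hle a
  rw [top_inf_eq] at hb
  rw [RingHom.mem_ker, ← not_iff_not, ← mem_basicOpen_iff_notMem hV hy a]
  let pt : Spec (S.residueField y) := IsLocalRing.closedPoint (S.residueField y)
  constructor
  · intro ha
    have hu : IsUnit ((g.appLE V ⊤ hle).hom a) := by
      let e := (Scheme.ΓSpecIso (S.residueField y)).commRingCatIsoToRingEquiv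
      have h0 : e ((g.appLE V ⊤ hle).hom a) ≠ 0 := fun h0 => ha (e.injective (h0.trans (map_zero e).symm))
      simpa using h0.isUnit.map e.symm
    have hmem : pt ∈ (Spec (S.residueField y)).basicOpen ((g.appLE V ⊤ hle).hom a) := by
      rw [Scheme.basicOpen_of_isUnit _ hu]; trivial
    rw [hb] at hmem
    have : g pt ∈ S.basicOpen a := hmem
    rwa [Scheme.fromSpecResidueField_apply] at this
  · intro ha h0
    have hmem : pt ∈ g ⁻¹ᵁ S.basicOpen a := by
      show g pt ∈ S.basicOpen a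
      rwa [Scheme.fromSpecResidueField_apply]
    rw [← hb, h0, Scheme.basicOpen_zero] at hmem
    exact hmem

variable (y : S) [HasInjectiveResolutions X.Modules] [HasInjectiveResolutions (f.fiber y).Modules]
  {Δ : RDer.DerivedLES (pushforward f)} {Δs : RDer.DerivedLES (pushforward (f.fiberToSpecResidueField y))}
  {E : CohCmp.SectCmp f Δ} {Es : CohCmp.SectCmp (f.fiberToSpecResidueField y) Δs}

include hF in
/-- An epimorphic base change map at the fibre gives surjectivity of the comparison. -/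
theorem surjective_tM_of_epi_fibre (p : ℕ)
    (B : CohCmp.GenBC f (S.fromSpecResidueField y) (f.fiberToSpecResidueField y) (f.fiberι y) (f.fiber_fac y) E Es)
    (hB : Epi (B.bc p F)) {V : S.Opens} {hV : IsAffineOpen V} (hy : y ∈ V)
    (T : ModuleCat.{u} Γ(S, V) ⥤ ModuleCat.{u} Γ(S, V)) [T.Additive] [T.Linear Γ(S, V)]
    (e : LinModel f F hV p T) :
    ∃ (K : Type u) (_ : Field K) (_ : Algebra Γ(S, V) K),
      RingHom.ker (algebraMap Γ(S, V) K) = (hV.primeIdealOf ⟨y, hy⟩).asIdeal ∧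
        Function.Surjective (FlatCxLib.tM T (ModuleCat.of Γ(S, V) K)) := by
  have hle : (⊤ : (Spec (S.residueField y)).Opens) ≤ S.fromSpecResidueField y ⁻¹ᵁ V := fun z _ => by
    show S.fromSpecResidueField y z ∈ V
    rwa [Scheme.fromSpecResidueField_apply]
  have h : IsPullback (f.fiberι y) (f.fiberToSpecResidueField y) f (S.fromSpecResidueField y) :=
    IsPullback.of_hasPullback _ _
  have hW : IsAffineOpen (⊤ : (Spec (S.residueField y)).Opens) := isAffineOpen_top _
  have hf' : IsField Γ(Spec (S.residueField y), ⊤) :=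
    MulEquiv.isField (Field.toIsField (S.residueField y))
      (Scheme.ΓSpecIso (S.residueField y)).commRingCatIsoToRingEquiv.toMulEquiv
  refine ⟨Γ(Spec (S.residueField y), ⊤), hf'.toField, ((S.fromSpecResidueField y).appLE V ⊤ hle).hom.toAlgebra,
    ker_appLE_fromSpecResidueField hV hy hle, ?_⟩
  refine (genBC_local h B hF p hV hW hle T e).2.1 ?_
  exact app_surjective_of_epi (isQCoh_pullback _ (isQCoh_Rpush f hF p))
    (haveI : QuasiCompact (f.fiberToSpecResidueField y) := MorphismProperty.of_isPullback h inferInstance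
     haveI : QuasiSeparated (f.fiberToSpecResidueField y) := MorphismProperty.of_isPullback h inferInstance
     isQCoh_Rpush _ (isQCoh_pullback _ hF) p) _ hW

end fibre

include hF in
/-- Vanishing on the fibre gives surjectivity of the comparison. -/
theorem surjective_tM_of_subsingleton_fiberH {V : S.Opens} {hV : IsAffineOpen V}
    {P : ChainComplex (ModuleCat.{u} Γ(S, V)) ℤ} (hP : HasModel f F hV P) {y : S} (hy : y ∈ V) {p : ℕ}
    (h : Subsingleton (CohIII.fiberH f F y p)) :
    letI : Algebra Γ(S, V) (S.residueField y) := (evalV y hy).toAlgebra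
    Function.Surjective (FlatCxLib.tM (CohIII.TFun P (-(p : ℤ))) (ModuleCat.of Γ(S, V) (S.residueField y))) := by
  letI : Algebra Γ(S, V) (S.residueField y) := (evalV y hy).toAlgebra
  obtain ⟨e⟩ := hP.nonempty_T_residue hF hy p
  exact fun z => ⟨0, e.injective (h.elim _ _)⟩

section iso

variable {X' S' : Scheme.{u}} {g : S' ⟶ S} {f' : X' ⟶ S'} {g' : X' ⟶ X} (h : IsPullback g' f' f g)

include hF in
/-- The base change map is an isomorphism where the exchange property holds. -/
theorem isIso_bc_of_epiAt [HasInjectiveResolutions X.Modules] [HasInjectiveResolutions X'.Modules]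
    {Δ : RDer.DerivedLES (pushforward f)} {Δ' : RDer.DerivedLES (pushforward f')} {E : CohCmp.SectCmp f Δ}
    {E' : CohCmp.SectCmp f' Δ'} (B : CohCmp.GenBC f g f' g' h.w E E') (p : ℕ)
    (hU : ∀ z : S', EpiAt f F (-(p : ℤ)) (g z)) : IsIso (B.bc p F) := by
  haveI : QuasiCompact f' := MorphismProperty.of_isPullback h inferInstance
  haveI : QuasiSeparated f' := MorphismProperty.of_isPullback h inferInstance
  choose V hV P hzV hP hepi using hU
  have hW : ∀ z : S', ∃ W : S'.Opens, IsAffineOpen W ∧ z ∈ W ∧ W ≤ g ⁻¹ᵁ V z := fun z => by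
    obtain ⟨_, ⟨W, hW, rfl⟩, hz, hle⟩ :=
      S'.isBasis_affineOpens.exists_subset_of_mem_open (show z ∈ g ⁻¹ᵁ V z from hzV z) (g ⁻¹ᵁ V z).2
    exact ⟨W, hW, hz, hle⟩
  choose W hW hzW hle using hW
  refine isIso_of_affine_cover (isQCoh_pullback g (isQCoh_Rpush f hF p))
    (isQCoh_Rpush f' (isQCoh_pullback g' hF) p) (B.bc p F) W hW (fun z => ⟨z, hzW z⟩) fun z => ?_
  obtain ⟨e⟩ := (hP z).iso p
  exact (genBC_local h B hF p (hV z) (hW z) (hle z) _ e).1.2
    (bijective_tM_of_preservesEpi (hP z).cx.flat (hepi z) _)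

include hF in
/-- The same in degree zero. -/
theorem isIso_bc0_of_epiAt (hU : ∀ z : S', EpiAt f F 0 (g z)) : IsIso (CohBC.bc0 f g f' g' h.w F) := by
  haveI : QuasiCompact f' := MorphismProperty.of_isPullback h inferInstance
  haveI : QuasiSeparated f' := MorphismProperty.of_isPullback h inferInstance
  choose V hV P hzV hP hepi using hU
  have hW : ∀ z : S', ∃ W : S'.Opens, IsAffineOpen W ∧ z ∈ W ∧ W ≤ g ⁻¹ᵁ V z := fun z => by
    obtain ⟨_, ⟨W, hW, rfl⟩, hz, hle⟩ :=
      S'.isBasis_affineOpens.exists_subset_of_mem_open (show z ∈ g ⁻¹ᵁ V z from hzV z) (g ⁻¹ᵁ V z).2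
    exact ⟨W, hW, hz, hle⟩
  choose W hW hzW hle using hW
  refine isIso_of_affine_cover (isQCoh_pullback g (isQCoh_pushforward f hF))
    (isQCoh_pushforward f' (isQCoh_pullback g' hF)) (CohBC.bc0 f g f' g' h.w F) W hW (fun z => ⟨z, hzW z⟩)
    fun z => ?_
  obtain ⟨e⟩ := (hP z).iso 0
  exact (bc0_local h hF (hV z) (hW z) (hle z) (CohIII.TFun (P z) (-((0 : ℕ) : ℤ))) e).1.2
    (bijective_tM_of_preservesEpi (hP z).cx.flat (hepi z) _)

end iso

end Groth.Agent.CohH33
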