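import Groth.Agent.CohH33.Model
import Groth.Agent.QCoh.RpushExchange2

/-!
# Consequences of the exchange property
-/

universe u

set_option backward.isDefEq.respectTransparency.types false
set_option maxHeartbeats 1000000
set_option maxRecDepth 4000
set_option linter.style.haveILetI false

open CategoryTheory AlgebraicGeometry AlgebraicGeometry.Scheme.Modules
open TopologicalSpace Opposite
open Groth.Agent.QCoh
open scoped TensorProduct

namespace Groth.Agent.CohH33

variable {X S : Scheme.{u}}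

/-- Models exist at every point. -/
def HasModels (f : X ⟶ S) (F : X.Modules) : Prop :=
  ∀ y : S, ∃ (V : S.Opens) (hV : IsAffineOpen V) (P : ChainComplex (ModuleCat.{u} Γ(S, V)) ℤ),
    y ∈ V ∧ HasModel f F hV P

/-- Every model at `y` has surjective comparison in degree `q` at some field lying over `y`. -/
def SurjAt (f : X ⟶ S) (F : X.Modules) (q : ℤ) (y : S) : Prop :=
  ∀ (V : S.Opens) (hV : IsAffineOpen V) (P : ChainComplex (ModuleCat.{u} Γ(S, V)) ℤ) (hy : y ∈ V),
    HasModel f F hV P → ∃ (K : Type u) (_ : Field K) (_ : Algebra Γ(S, V) K),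
      RingHom.ker (algebraMap Γ(S, V) K) = (hV.primeIdealOf ⟨y, hy⟩).asIdeal ∧
        Function.Surjective (FlatCxLib.tM (CohIII.TFun P q) (ModuleCat.of Γ(S, V) K))

variable {f : X ⟶ S} [IsSeparated f] [QuasiCompact f] {F : X.Modules} (hF : Coh.IsQCoh F)

theorem surjAt_pos (y : S) {q : ℤ} (hq : 0 < q) : SurjAt f F q y := fun V hV P hy hP => by
  letI : Algebra Γ(S, V) (hV.primeIdealOf ⟨y, hy⟩).asIdeal.ResidueField := inferInstance
  exact ⟨(hV.primeIdealOf ⟨y, hy⟩).asIdeal.ResidueField, inferInstance, inferInstance,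
    Ideal.ker_algebraMap_residueField _, fun z =>
      ⟨0, (ModuleCat.subsingleton_of_isZero (hP.cx.pos q hq _)).elim _ _⟩⟩

include hF in
theorem surjAt_of_epi_fibre [HasInjectiveResolutions X.Modules] {y : S}
    [HasInjectiveResolutions (f.fiber y).Modules] {Δ : RDer.DerivedLES (pushforward f)}
    {Δs : RDer.DerivedLES (pushforward (f.fiberToSpecResidueField y))}
    {E : CohCmp.SectCmp f Δ} {Es : CohCmp.SectCmp (f.fiberToSpecResidueField y) Δs}
    (B : CohCmp.GenBC f (S.fromSpecResidueField y) (f.fiberToSpecResidueField y) (f.fiberι y) (f.fiber_fac y) E Es)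
    (p : ℕ) (h : Epi (B.bc p F)) : SurjAt f F (-(p : ℤ)) y := fun V hV P hy hP => by
  obtain ⟨e⟩ := hP.iso p
  exact surjective_tM_of_epi_fibre hF y p B h hy _ e

include hF in
theorem surjAt_of_subsingleton {y : S} (p : ℕ) (h : Subsingleton (CohIII.fiberH f F y p)) :
    SurjAt f F (-(p : ℤ)) y := fun V hV P hy hP =>
  ⟨(S.residueField y : Type u), inferInstanceAs (Field (S.residueField y)), (evalV y hy).toAlgebra,
    ker_evalV hV hy, surjective_tM_of_subsingleton_fiberH hF hP hy h⟩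

include hF in
/-- A degree zero epimorphism at the fibre. -/
theorem surjAt_of_epi_bc0 {y : S}
    (h : Epi (CohBC.bc0 f (S.fromSpecResidueField y) (f.fiberToSpecResidueField y) (f.fiberι y) (f.fiber_fac y) F)) :
    SurjAt f F 0 y := fun V hV P hy hP => by
  have hle : (⊤ : (Spec (S.residueField y)).Opens) ≤ S.fromSpecResidueField y ⁻¹ᵁ V := fun z _ => by
    show S.fromSpecResidueField y z ∈ V
    rwa [Scheme.fromSpecResidueField_apply]
  have hsq : IsPullback (f.fiberι y) (f.fiberToSpecResidueField y) f (S.fromSpecResidueField y) :=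
    IsPullback.of_hasPullback _ _
  have hW : IsAffineOpen (⊤ : (Spec (S.residueField y)).Opens) := isAffineOpen_top _
  have hf' : IsField Γ(Spec (S.residueField y), ⊤) :=
    MulEquiv.isField (Field.toIsField (S.residueField y))
      (Scheme.ΓSpecIso (S.residueField y)).commRingCatIsoToRingEquiv.toMulEquiv
  obtain ⟨e⟩ := hP.iso 0
  refine ⟨Γ(Spec (S.residueField y), ⊤), hf'.toField, ((S.fromSpecResidueField y).appLE V ⊤ hle).hom.toAlgebra,
    ker_appLE_fromSpecResidueField hV hy hle, ?_⟩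
  refine (bc0_local hsq hF hV hW hle (CohIII.TFun P (-((0 : ℕ) : ℤ))) e).2.1 ?_
  exact app_surjective_of_epi (isQCoh_pullback _ (isQCoh_pushforward f hF))
    (haveI : QuasiCompact (f.fiberToSpecResidueField y) := MorphismProperty.of_isPullback hsq inferInstance
     haveI : QuasiSeparated (f.fiberToSpecResidueField y) := MorphismProperty.of_isPullback hsq inferInstance
     isQCoh_pushforward _ (isQCoh_pullback _ hF)) _ hW

variable (hM : HasModels f F)

include hF hM in
/-- Models inside a given neighbourhood. -/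
theorem exists_model_le {y : S} {U : S.Opens} (hy : y ∈ U) :
    ∃ (V : S.Opens) (hV : IsAffineOpen V) (P : ChainComplex (ModuleCat.{u} Γ(S, V)) ℤ),
      y ∈ V ∧ V ≤ U ∧ HasModel f F hV P := by
  obtain ⟨V, hV, P, hyV, hP⟩ := hM y
  obtain ⟨_, ⟨W, hW, rfl⟩, hyW, hWle⟩ :=
    S.isBasis_affineOpens.exists_subset_of_mem_open (show y ∈ V ⊓ U from ⟨hyV, hy⟩) (V ⊓ U).2
  have hle : W ≤ V ⊓ U := hWle
  exact ⟨W, hW, _, hyW, hle.trans inf_le_right, hP.restrict hF hW (hle.trans inf_le_left)⟩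

include hF in
/-- Surjectivity in several degrees gives a common neighbourhood. -/
theorem exists_nhd_model_aux {y : S} (l : List ℤ) (h : ∀ q ∈ l, SurjAt f F q y) {V : S.Opens}
    {hV : IsAffineOpen V} {P : ChainComplex (ModuleCat.{u} Γ(S, V)) ℤ} (hy : y ∈ V) (hP : HasModel f F hV P) :
    ∃ (W : S.Opens) (hW : IsAffineOpen W) (Q : ChainComplex (ModuleCat.{u} Γ(S, W)) ℤ),
      y ∈ W ∧ W ≤ V ∧ HasModel f F hW Q ∧ ∀ q ∈ l, (CohIII.TFun Q q).PreservesEpimorphisms := by
  induction l with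
  | nil => exact ⟨V, hV, P, hy, le_rfl, hP, fun q hq => by simp at hq⟩
  | cons q₀ l ih =>
    obtain ⟨W, hW, Q, hyW, hWV, hQ, hl⟩ := ih fun q hq => h q (List.mem_cons_of_mem _ hq)
    obtain ⟨K, _, _, hK, hs⟩ := h q₀ List.mem_cons_self W hW Q hyW hQ
    obtain ⟨W', hW', hle, hyW', hQ', hq₀⟩ := hQ.exists_preservesEpi_nhd hF hyW hK hs
    refine ⟨W', hW', _, hyW', hle.trans hWV, hQ', fun q hq => ?_⟩
    rcases List.mem_cons.1 hq with rfl | hq'
    · exact hq₀
    · exact preservesEpi_restrict hQ hle (hl q hq')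

include hF hM in
/-- Surjectivity in several degrees gives a common neighbourhood. -/
theorem exists_nhd_model {y : S} (l : List ℤ) (h : ∀ q ∈ l, SurjAt f F q y) :
    ∃ (W : S.Opens) (hW : IsAffineOpen W) (Q : ChainComplex (ModuleCat.{u} Γ(S, W)) ℤ),
      y ∈ W ∧ HasModel f F hW Q ∧ ∀ q ∈ l, (CohIII.TFun Q q).PreservesEpimorphisms := by
  obtain ⟨V, hV, P, hy, hP⟩ := hM y
  obtain ⟨W, hW, Q, h1, -, h3, h4⟩ := exists_nhd_model_aux hF l h hy hP
  exact ⟨W, hW, Q, h1, h3, h4⟩

theorem surjAt_fiber_of_epiAt_aux {V : S.Opens} {P : ChainComplex (ModuleCat.{u} Γ(S, V)) ℤ}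
    (hflat : ∀ i, Module.Flat Γ(S, V) (P.X i)) {q : ℤ} (h : (CohIII.TFun P q).PreservesEpimorphisms)
    (M : ModuleCat.{u} Γ(S, V)) : Function.Bijective (FlatCxLib.tM (CohIII.TFun P q) M) :=
  bijective_tM_of_preservesEpi hflat h M

section sections

variable [HasInjectiveResolutions X.Modules] {Δ : RDer.DerivedLES (pushforward f)} (E : CohCmp.SectCmp f Δ)
  {V : S.Opens} {hV : IsAffineOpen V} {P : ChainComplex (ModuleCat.{u} Γ(S, V)) ℤ} (hP : HasModel f F hV P)

include hF hP E in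
/-- The value of the model at the ring is the module of sections. -/
theorem nonempty_sections_T (p : ℕ) :
    Nonempty (CohIII.T P (-(p : ℤ)) (ModuleCat.of Γ(S, V) Γ(S, V)) ≃ₗ[Γ(S, V)] Γ((Coh.Rpush f p).obj F, V)) := by
  let U := f ⁻¹ᵁ V
  letI : (U : Scheme.{u}).Over (Spec (CommRingCat.of Γ(S, V))) := ⟨overSpec f hV⟩
  obtain ⟨e⟩ := hP.iso p
  have hsq : IsPullback (𝟙 (U : Scheme.{u})) (overSpec f hV) ((U : Scheme.{u}) ↘ Spec (CommRingCat.of Γ(S, V)))
      (Spec.map (CommRingCat.ofHom (algebraMap Γ(S, V) Γ(S, V)))) := by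
    rw [show CommRingCat.ofHom (algebraMap Γ(S, V) Γ(S, V)) = 𝟙 _ from rfl, Spec.map_id]
    exact IsPullback.of_horiz_isIso ⟨by simp; rfl⟩
  obtain ⟨ε₀, -, -⟩ := exists_tM_model (F.restrict U.ι) (isQCoh_restrict U.ι hF) (𝟙 (U : Scheme.{u}))
    (overSpec f hV) hsq p (CohIII.TFun P (-(p : ℤ))) e
  letI := modHH (Coh.toGlobal (overSpec f hV)) (F.restrict U.ι) p
  let εV : Coh.HH _ (F.restrict U.ι) p ≃ₗ[Γ(S, V)] Γ((Coh.Rpush f p).obj F, V) :=
    AddEquiv.toLinearEquiv (secEquivε E hF p hV).e fun a x =>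
      (congrArg (fun c => (secEquivε E hF p hV).e (Sheaf.H.map (Coh.smulAb (F.restrict U.ι) c) p x))
        (show Coh.toGlobal (overSpec f hV) a = rhoV f V a by rw [toGlobal_overSpec])).trans
      ((secEquivε E hF p hV).smul a x)
  exact ⟨ε₀.trans εV⟩

end sections

theorem isFinLocFree_restrict_of_nhds {G : S.Modules} {U : S.Opens}
    (h : ∀ x ∈ U, ∃ (W : S.Opens) (n : ℕ), x ∈ W ∧ Nonempty (G.restrict W.ι ≅ FlatMod.freeMod (W : Scheme.{u}) n)) :
    FlatMod.IsFinLocFree (G.restrict U.ι) := fun z => by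
  obtain ⟨W, n, hxW, ⟨i⟩⟩ := h z.1 z.2
  exact ⟨U.ι ⁻¹ᵁ W, n, hxW, ⟨restrictRestrict G _ U.ι ≪≫
    (Scheme.Modules.restrictFunctorCongr (morphismRestrict_ι U.ι W).symm).app G ≪≫
    (restrictRestrict G _ W.ι).symm ≪≫ (Scheme.Modules.restrictFunctor _).mapIso i ≪≫ freeModRestrict _ n⟩⟩

/-- A chart of the restriction is a chart. -/
theorem exists_chart_of_restrict {G : S.Modules} {U : S.Opens} (h : FlatMod.IsFinLocFree (G.restrict U.ι))
    {y : S} (hy : y ∈ U) :
    ∃ (W : S.Opens) (n : ℕ), y ∈ W ∧ W ≤ U ∧ Nonempty (G.restrict W.ι ≅ FlatMod.freeMod (W : Scheme.{u}) n) := by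
  obtain ⟨W, n, hW, ⟨e⟩⟩ := h ⟨y, hy⟩
  let q : ((U.ι ''ᵁ W : S.Opens) : Scheme.{u}) ⟶ W := (U.ι.isoImage W).inv
  have hq : q ≫ W.ι ≫ U.ι = (U.ι ''ᵁ W).ι := by simp [q]
  exact ⟨U.ι ''ᵁ W, n, ⟨⟨y, hy⟩, hW, rfl⟩, U.ι_image_le W,
    ⟨(Scheme.Modules.restrictFunctorCongr hq.symm).app G ≪≫ (restrictRestrict G q (W.ι ≫ U.ι)).symm ≪≫
      (Scheme.Modules.restrictFunctor q).mapIso ((restrictRestrict G W.ι U.ι).symm ≪≫ e) ≪≫ freeModRestrict _ n⟩⟩

/-- A quasi-coherent module without sections on an affine open restricts to zero. -/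
theorem isZero_restrict_of_subsingleton {G : S.Modules} (hG : Coh.IsQCoh G) {W : S.Opens} (hW : IsAffineOpen W)
    (h : Subsingleton Γ(G, W)) : Limits.IsZero (G.restrict W.ι) := by
  haveI : IsAffine (W : Scheme.{u}) := hW
  refine isZero_of_cover (isQCoh_restrict W.ι hG) (fun _ : Unit => (⊤ : (W : Scheme.{u}).Opens))
    (fun _ => isAffineOpen_top _) (fun _ => ⟨(), trivial⟩) fun _ => ?_
  show Subsingleton Γ(G, W.ι ''ᵁ ⊤)
  rw [W.ι_image_top]
  exact h

/-- A flat finitely presented module of sections is free near each point. -/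
theorem exists_free_nhd_of_flat {G : S.Modules} (hG : Coh.IsQCoh G) {V : S.Opens} (hV : IsAffineOpen V)
    [Module.FinitePresentation Γ(S, V) Γ(G, V)] [Module.Flat Γ(S, V) Γ(G, V)] {y : S} (hy : y ∈ V) :
    ∃ (U : S.Opens) (n : ℕ), y ∈ U ∧ U ≤ V ∧ Nonempty (G.restrict U.ι ≅ FlatMod.freeMod (U : Scheme.{u}) n) := by
  let x := hV.primeIdealOf ⟨y, hy⟩
  let A' := Localization.AtPrime x.asIdeal
  haveI : IsLocalizedModule x.asIdeal.primeCompl (TensorProduct.mk Γ(S, V) A' Γ(G, V) 1) :=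
    (isLocalizedModule_iff_isBaseChange x.asIdeal.primeCompl A' _).2
      (TensorProduct.isBaseChange Γ(S, V) Γ(G, V) A')
  haveI : Module.Free A' (A' ⊗[Γ(S, V)] Γ(G, V)) := Module.free_of_flat_of_isLocalRing
  obtain ⟨r, hr, hfr, -⟩ := Module.FinitePresentation.exists_free_localizedModule_powers
    x.asIdeal.primeCompl (TensorProduct.mk Γ(S, V) A' Γ(G, V) 1) A'
  haveI : Nontrivial (Localization.Away r) := (IsLocalization.Away.lift (S := Localization.Away r) r
    (IsLocalization.map_units A' (⟨r, hr⟩ : x.asIdeal.primeCompl))).domain_nontrivial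
  exact ⟨_, _, (mem_basicOpen_iff_notMem hV hy r).2 hr, S.basicOpen_le r, exists_free_nhd' hG hV r hfr⟩

section exchange

variable [HasInjectiveResolutions X.Modules] {Δ : RDer.DerivedLES (pushforward f)} (E : CohCmp.SectCmp f Δ)
  {V : S.Opens} {hV : IsAffineOpen V} {P : ChainComplex (ModuleCat.{u} Γ(S, V)) ℤ} (hP : HasModel f F hV P)
  {p : ℕ} (hq : (CohIII.TFun P (-(p : ℤ))).PreservesEpimorphisms)

include hF hP E hq

theorem finitePresentation_sections : Module.FinitePresentation Γ(S, V) Γ((Coh.Rpush f p).obj F, V) := by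
  haveI := finitePresentation_T hP.cx hq
  obtain ⟨e⟩ := nonempty_sections_T hF E hP p
  exact Module.finitePresentation_of_surjective e.toLinearMap e.surjective (by
    rw [LinearEquiv.ker]; exact Submodule.fg_bot)

/-- Both exchange properties give finite local freeness. -/
theorem isFinLocFree_of_preservesEpi (hq' : (CohIII.TFun P (-(p : ℤ) + 1)).PreservesEpimorphisms) :
    FlatMod.IsFinLocFree (((Coh.Rpush f p).obj F).restrict V.ι) := by
  obtain ⟨e⟩ := nonempty_sections_T hF E hP p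
  haveI := (preservesEpi_succ_iff hP.cx hq).1 hq'
  haveI : Module.Flat Γ(S, V) Γ((Coh.Rpush f p).obj F, V) := Module.Flat.of_linearEquiv e.symm
  haveI := finitePresentation_sections hF E hP hq
  refine isFinLocFree_restrict_of_nhds fun x hx => ?_
  obtain ⟨U, n, hxU, -, hU⟩ := exists_free_nhd_of_flat (isQCoh_Rpush f hF p) hV hx
  exact ⟨U, n, hxU, hU⟩

/-- Free sections give the exchange property in the next degree. -/
theorem preservesEpi_succ_of_free {U : S.Opens} (hVU : V ≤ U) {n : ℕ}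
    (h : ((Coh.Rpush f p).obj F).restrict U.ι ≅ FlatMod.freeMod (U : Scheme.{u}) n) :
    (CohIII.TFun P (-(p : ℤ) + 1)).PreservesEpimorphisms := by
  obtain ⟨e⟩ := nonempty_sections_T hF E hP p
  obtain ⟨l⟩ := free_sections hV hVU h
  haveI : Module.Flat Γ(S, V) Γ((Coh.Rpush f p).obj F, V) := Module.Flat.of_linearEquiv l
  exact (preservesEpi_succ_iff hP.cx hq).2 (Module.Flat.of_linearEquiv e)

omit E [HasInjectiveResolutions X.Modules] in
/-- Fibres vanish where an element killing the value at the ring is invertible. -/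
theorem subsingleton_fiberH_of_smul_eq_zero {z : S} (hz : z ∈ V) {r : Γ(S, V)}
    (hr : r ∉ (hV.primeIdealOf ⟨z, hz⟩).asIdeal)
    (h0 : ∀ t : CohIII.T P (-(p : ℤ)) (ModuleCat.of Γ(S, V) Γ(S, V)), r • t = 0) :
    Subsingleton (CohIII.fiberH f F z p) := by
  letI : Algebra Γ(S, V) (S.residueField z) := (evalV z hz).toAlgebra
  obtain ⟨eκ⟩ := hP.nonempty_T_residue hF hz p
  have hu : IsUnit (evalV z hz r) := isUnit_iff_ne_zero.2 fun h => hr ((ker_evalV hV hz).le h)
  have hall : ∀ w : CohIII.T P (-(p : ℤ)) (ModuleCat.of Γ(S, V) Γ(S, V)) ⊗[Γ(S, V)] (S.residueField z), w = 0 := by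
    intro w
    induction w using TensorProduct.induction_on with
    | zero => rfl
    | add a b ha hb => rw [ha, hb, add_zero]
    | tmul t k =>
      obtain ⟨c, hc⟩ := hu
      have : k = r • ((c⁻¹ : (S.residueField z : Type u)ˣ).val * k) := by
        show k = evalV z hz r * _
        rw [← hc, ← mul_assoc, Units.mul_inv, one_mul]
      rw [this, ← TensorProduct.smul_tmul, h0, TensorProduct.zero_tmul]
  haveI : Subsingleton (CohIII.T P (-(p : ℤ)) (ModuleCat.of Γ(S, V) (S.residueField z))) :=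
    @Function.Surjective.subsingleton _ _ _ ⟨fun a b => (hall a).trans (hall b).symm⟩
      (surjAt_fiber_of_epiAt_aux hP.cx.flat hq (ModuleCat.of Γ(S, V) (S.residueField z))).2
  exact eκ.symm.toEquiv.subsingleton

/-- A vanishing fibre kills the sheaf near the point and makes the next degree exchange. -/
theorem exists_isZero_nhd_of_subsingleton {y : S} (hy : y ∈ V) (h : Subsingleton (CohIII.fiberH f F y p)) :
    ∃ U : S.Opens, y ∈ U ∧ U ≤ V ∧ Limits.IsZero (((Coh.Rpush f p).obj F).restrict U.ι) ∧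
      ∀ z ∈ U, Subsingleton (CohIII.fiberH f F z p) := by
  letI : Algebra Γ(S, V) (S.residueField y) := (evalV y hy).toAlgebra
  obtain ⟨eκ⟩ := hP.nonempty_T_residue hF hy p
  haveI : Subsingleton ((CohIII.TFun P (-(p : ℤ))).obj (ModuleCat.of Γ(S, V) (S.residueField y))) :=
    eκ.toEquiv.subsingleton
  have hsub : Subsingleton (CohIII.T P (-(p : ℤ)) (ModuleCat.of Γ(S, V) Γ(S, V)) ⊗[Γ(S, V)] (S.residueField y)) :=
    Function.Injective.subsingleton
      (surjAt_fiber_of_epiAt_aux hP.cx.flat hq (ModuleCat.of Γ(S, V) (S.residueField y))).1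
  haveI := finitePresentation_T hP.cx hq
  obtain ⟨r, hr, h0⟩ := exists_smul_eq_zero (hV.primeIdealOf ⟨y, hy⟩) (K := (S.residueField y : Type u))
    (ker_evalV hV hy) hsub
  obtain ⟨e⟩ := nonempty_sections_T hF E hP p
  have hR := isQCoh_Rpush f hF p
  refine ⟨S.basicOpen r, (mem_basicOpen_iff_notMem hV hy r).2 hr, S.basicOpen_le r, ?_, fun z hz => ?_⟩
  swap
  · have hzV : z ∈ V := S.basicOpen_le r hz
    exact subsingleton_fiberH_of_smul_eq_zero hF hP hq hzV
      ((mem_basicOpen_iff_notMem hV hzV r).1 hz) h0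
  refine isZero_restrict_of_subsingleton hR (hV.basicOpen r) ⟨fun a b => ?_⟩
  suffices ∀ s : Γ((Coh.Rpush f p).obj F, S.basicOpen r), s = 0 from (this a).trans (this b).symm
  intro s
  obtain ⟨n, t, ht⟩ := exists_pow_smul_eq_map hR hV r s
  have hu : IsUnit ((show Γ(S, S.basicOpen r) from S.presheaf.map (homOfLE (S.basicOpen_le r)).op r) ^ (n + 1)) :=
    (RingedSpace.isUnit_res_basicOpen S.toRingedSpace r).pow (n + 1)
  refine hu.smul_eq_zero.1 ?_
  have ht0 : r • t = 0 := by
    obtain ⟨t', rfl⟩ := e.surjective t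
    rw [← _root_.map_smul, h0 t', _root_.map_zero]
  have h1 := congrArg (((Coh.Rpush f p).obj F).presheaf.map (homOfLE (S.basicOpen_le r)).op) ht0
  rw [QCoh.map_smul', _root_.map_zero, ht, smul_smul, ← pow_succ'] at h1
  exact h1

omit E [HasInjectiveResolutions X.Modules] in
/-- The dimension of the fibre cohomology is locally constant. -/
theorem isLocallyConstant_fiberRank_of_preservesEpi
    (hq' : (CohIII.TFun P (-(p : ℤ) + 1)).PreservesEpimorphisms) :
    IsLocallyConstant fun v : V => CohIII.fiberRank f F p v.1 := by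
  haveI := (preservesEpi_succ_iff hP.cx hq).1 hq'
  haveI := finitePresentation_T hP.cx hq
  have e : (fun v : V => CohIII.fiberRank f F p v.1) =
      (fun x => FlatCxLib.fibreRank (CohIII.T P (-(p : ℤ)) (ModuleCat.of Γ(S, V) Γ(S, V))) x) ∘ hV.primeIdealOf :=
    funext fun v => ((hP.fiberRank_eq hF v.2 p).1.trans (dRank_eq hP.cx hq _))
  rw [e]
  exact (FlatCxLib.isLocallyConstant_fibreRank _).comp_continuous hV.isoSpec.hom.continuous

end exchange

include hF in
/-- Constant fibre dimension over a reduced base gives both exchange properties. -/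
theorem preservesEpi_of_fiberRank [IsReduced S] {V : S.Opens} {hV : IsAffineOpen V}
    {P : ChainComplex (ModuleCat.{u} Γ(S, V)) ℤ} (hP : HasModel f F hV P) {p : ℕ}
    (h : IsLocallyConstant (CohIII.fiberRank f F p)) :
    (CohIII.TFun P (-(p : ℤ))).PreservesEpimorphisms ∧ (CohIII.TFun P (-(p : ℤ) + 1)).PreservesEpimorphisms := by
  refine preservesEpi_of_isLocallyConstant hP.cx ?_
  have e : CohIII.dRank P (-(p : ℤ)) = CohIII.fiberRank f F p ∘ hV.fromSpec := funext fun z => by
    obtain ⟨w, hw, rfl⟩ := exists_point_fromSpec hV z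
    exact (hP.fiberRank_eq hF hw p).1.symm.trans
      (congrArg (CohIII.fiberRank f F p) (hV.fromSpec_primeIdealOf ⟨w, hw⟩).symm)
  rw [e]
  exact h.comp_continuous hV.fromSpec.continuous

end Groth.Agent.CohH33
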