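import Groth.Agent.CohH33.PushEdge
import Groth.Agent.QCoh.Sections

/-!
# `CohPull.pullOn` and `CohPull.resLE` as maps along explicit cohomomorphisms
-/

universe u

set_option backward.isDefEq.respectTransparency.types false
set_option maxHeartbeats 800000
set_option maxRecDepth 4000

open CategoryTheory AlgebraicGeometry AlgebraicGeometry.Scheme.Modules
open TopologicalSpace Opposite
open Groth.Agent.QCoh

namespace Groth.Agent.CohH33

variable {X Y Z : Scheme.{u}}

theorem map_map_eq (M : X.Modules) {A B C : X.Opens} (i : B ⟶ A) (j : C ⟶ B) (k : C ⟶ A)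
    (x : Γ(M, A)) : M.presheaf.map j.op (M.presheaf.map i.op x) = M.presheaf.map k.op x :=
  Ab.map_map'' M.presheaf i j k x

theorem homEquiv_pullbackComp_inv (a : X ⟶ Y) (b : Y ⟶ Z) (M : Z.Modules) (N : X.Modules)
    (v : (pullback a).obj ((pullback b).obj M) ⟶ N) :
    (pullbackPushforwardAdjunction (a ≫ b)).homEquiv M N ((pullbackComp a b).inv.app M ≫ v) =
      (pullbackPushforwardAdjunction b).homEquiv M _
          ((pullbackPushforwardAdjunction a).homEquiv _ N v) ≫ (pushforwardComp a b).hom.app N := by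
  have h := unit_conjugateEquiv ((pullbackPushforwardAdjunction b).comp (pullbackPushforwardAdjunction a))
    (pullbackPushforwardAdjunction (a ≫ b)) (pullbackComp a b).inv M
  rw [conjugateEquiv_pullbackComp_inv, Adjunction.comp_unit_app] at h
  rw [Adjunction.homEquiv_unit, Adjunction.homEquiv_unit, Adjunction.homEquiv_unit, Functor.map_comp,
    ← Category.assoc, ← h]
  have hn := (pushforwardComp a b).hom.naturality v
  simp only [Functor.comp_map, Category.assoc, Functor.comp_obj, Functor.map_comp] at hn ⊢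
  rw [hn]

theorem homEquiv_pullbackComp_hom (a : X ⟶ Y) (b : Y ⟶ Z) (M : Z.Modules) (N : X.Modules)
    (w : (pullback (a ≫ b)).obj M ⟶ N) :
    (pullbackPushforwardAdjunction b).homEquiv M _
        ((pullbackPushforwardAdjunction a).homEquiv _ N ((pullbackComp a b).hom.app M ≫ w)) =
      (pullbackPushforwardAdjunction (a ≫ b)).homEquiv M N w ≫ (pushforwardComp a b).inv.app N := by
  have h := homEquiv_pullbackComp_inv a b M N ((pullbackComp a b).hom.app M ≫ w)
  rw [Iso.inv_hom_id_app_assoc] at h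
  rw [h, Category.assoc, Iso.hom_inv_id_app]
  exact (Category.comp_id _).symm

theorem homEquiv_pullbackCongr {a b : X ⟶ Y} (hab : a = b) (M : Y.Modules) (N : X.Modules)
    (w : (pullback b).obj M ⟶ N) :
    (pullbackPushforwardAdjunction a).homEquiv M N ((pullbackCongr hab).hom.app M ≫ w) =
      (pullbackPushforwardAdjunction b).homEquiv M N w ≫ (pushforwardCongr hab).inv.app N := by
  subst hab
  have h1 : (pullbackCongr (rfl : a = a)).hom.app M = 𝟙 _ := rfl
  have h2 : (pushforwardCongr (rfl : a = a)).inv.app N = 𝟙 _ := by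
    ext U x
    rw [pushforwardCongr_inv_app_app, Hom.id_app]
    exact congr($(N.presheaf.map_id _) x)
  rw [h1, h2, Category.comp_id, Category.id_comp]

section restrict

variable (j : X ⟶ Y) [IsOpenImmersion j]

theorem homEquiv_restrict_iso_hom (M : Y.Modules) (N : X.Modules) (v : (pullback j).obj M ⟶ N) :
    (restrictAdjunction j).homEquiv M N ((restrictFunctorIsoPullback j).hom.app M ≫ v) =
      (pullbackPushforwardAdjunction j).homEquiv M N v := by
  rw [Adjunction.homEquiv_unit, Adjunction.homEquiv_unit, Functor.map_comp, ← Category.assoc,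
    restrictFunctorIsoPullback, Adjunction.unit_leftAdjointUniq_hom_app]

theorem homEquiv_restrict_iso_inv (M : Y.Modules) (N : X.Modules) (w : M.restrict j ⟶ N) :
    (pullbackPushforwardAdjunction j).homEquiv M N ((restrictFunctorIsoPullback j).inv.app M ≫ w) =
      (restrictAdjunction j).homEquiv M N w := by
  rw [← homEquiv_restrict_iso_hom, Iso.hom_inv_id_app_assoc]

end restrict

section square

variable {A B : Scheme.{u}} (k : A ⟶ B) (j : B ⟶ Y) (j' : A ⟶ X) (g : X ⟶ Y) [IsOpenImmersion j]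
  [IsOpenImmersion j'] (hw : k ≫ j = j' ≫ g) (F : Y.Modules)

/-- The comparison `k^*(F|_B) ⟶ (g^*F)|_A` of a square with open immersions. -/
noncomputable def sqMap : (pullback k).obj (F.restrict j) ⟶ ((pullback g).obj F).restrict j' :=
  (pullback k).map ((restrictFunctorIsoPullback j).hom.app F) ≫ (pullbackComp k j).hom.app F ≫
    (pullbackCongr hw).hom.app F ≫ (pullbackComp j' g).inv.app F ≫
      (restrictFunctorIsoPullback j').inv.app ((pullback g).obj F)

/-- The adjunct of `sqMap`. -/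
noncomputable def sqCo : F.restrict j ⟶ (pushforward k).obj (((pullback g).obj F).restrict j') :=
  (pullbackPushforwardAdjunction k).homEquiv _ _ (sqMap k j j' g hw F)

theorem homEquiv_sqCo :
    (restrictAdjunction j).homEquiv F _ (sqCo k j j' g hw F) =
      (pullbackPushforwardAdjunction g).homEquiv F _
          ((restrictAdjunction j').unit.app ((pullback g).obj F)) ≫
        (pushforwardComp j' g).hom.app (((pullback g).obj F).restrict j') ≫
          (pushforwardCongr hw).inv.app (((pullback g).obj F).restrict j') ≫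
            (pushforwardComp k j).inv.app (((pullback g).obj F).restrict j') := by
  have h4 := homEquiv_restrict_iso_inv j' ((pullback g).obj F) (((pullback g).obj F).restrict j') (𝟙 _)
  rw [Category.comp_id, Adjunction.homEquiv_id] at h4
  have h3 := homEquiv_pullbackComp_inv j' g F (((pullback g).obj F).restrict j')
    ((restrictFunctorIsoPullback j').inv.app ((pullback g).obj F))
  rw [h4] at h3
  unfold sqCo sqMap
  rw [Adjunction.homEquiv_naturality_left]
  refine (homEquiv_restrict_iso_hom j F _ _).trans ?_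
  refine (homEquiv_pullbackComp_hom k j F _ _).trans ?_
  rw [homEquiv_pullbackCongr, h3, Category.assoc, Category.assoc]
  rfl

theorem image_preimage_le_sq (hw : k ≫ j = j' ≫ g) (W : B.Opens) :
    j' ''ᵁ (k ⁻¹ᵁ W) ≤ g ⁻¹ᵁ (j ''ᵁ W) := by
  rintro _ ⟨y, hy, rfl⟩
  exact ⟨k y, hy, congr($hw y)⟩

theorem sqCo_app (W : B.Opens) (s : Γ(F.restrict j, W)) :
    (sqCo k j j' g hw F).app W s =
      ((pullback g).obj F).presheaf.map (homOfLE (image_preimage_le_sq k j j' g hw W)).op
        (((pullbackPushforwardAdjunction g).unit.app F).app (j ''ᵁ W) s) := by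
  let G := (pullback g).obj F
  have hs := congr(($(homEquiv_sqCo k j j' g hw F)).app (j ''ᵁ W) s)
  rw [Adjunction.homEquiv_unit, Adjunction.homEquiv_unit] at hs
  simp only [Hom.comp_app, pushforward_map_app, restrictAdjunction_unit_app_app,
    pushforwardComp_hom_app_app, pushforwardComp_inv_app_app, pushforwardCongr_inv_app_app,
    AddCommGrpCat.hom_comp, AddMonoidHom.coe_comp, Function.comp_apply, AddCommGrpCat.hom_id,
    AddMonoidHom.id_apply, Category.comp_id] at hs
  let V := j ⁻¹ᵁ (j ''ᵁ W)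
  have eV : W ≤ V := (j.preimage_image_eq W).ge
  let N := (pushforward k).obj (G.restrict j')
  let e : W ⟶ V := homOfLE eV
  have hnat : (sqCo k j j' g hw F).app W
      ((F.restrict j).presheaf.map e.op (F.presheaf.map (homOfLE (j.image_preimage_le (j ''ᵁ W))).op s)) =
      N.presheaf.map e.op ((sqCo k j j' g hw F).app V
        (F.presheaf.map (homOfLE (j.image_preimage_le (j ''ᵁ W))).op s)) :=
    Groth.Agent.QCoh.map_app_comm (sqCo k j j' g hw F) e _
  have hsrc : (F.restrict j).presheaf.map e.op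
      (F.presheaf.map (homOfLE (j.image_preimage_le (j ''ᵁ W))).op s) = s := by
    rw [restrict_map]
    exact (map_map_eq F _ _ (𝟙 _) s).trans congr($(F.presheaf.map_id _) s)
  rw [hsrc] at hnat
  refine hnat.trans ((congrArg _ hs).trans ?_)
  have hN : ∀ z, N.presheaf.map e.op z =
      G.presheaf.map (j'.opensFunctor.map ((Opens.map k.base).map e)).op z := fun z => rfl
  refine (hN _).trans ?_
  exact (congrArg (G.presheaf.map (j'.opensFunctor.map ((Opens.map k.base).map e)).op)
      (map_map_eq G (homOfLE _) _ (homOfLE ((j'.image_mono (le_of_eq (by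
        rw [← Scheme.Hom.comp_preimage, ← Scheme.Hom.comp_preimage, hw]))).trans
          (j'.image_preimage_le _))) _)).trans (map_map_eq G _ _ _ _)

end square

section pullOn

variable (g : X ⟶ Y) (U : Y.Opens) (U' : X.Opens) (h : U' ≤ g ⁻¹ᵁ U) (F : Y.Modules)

/-- The cohomomorphism behind `CohPull.pullOn`. -/
noncomputable def pullOnCo :
    F.restrict U.ι ⟶
      (pushforward (g.resLE U U' h)).obj (((pullback g).obj F).restrict U'.ι) :=
  sqCo (g.resLE U U' h) U.ι U'.ι g (Scheme.Hom.resLE_comp_ι g h) F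

theorem pullOnIso_hom :
    (CohPull.pullOnIso g U U' h F).hom =
      sqMap (g.resLE U U' h) U.ι U'.ι g (Scheme.Hom.resLE_comp_ι g h) F :=
  rfl

theorem pullOn_eq_cpull (p : ℕ) (x : Coh.HHon Y F U p) :
    CohPull.pullOn g U U' h F p x =
      cpull (g.resLE U U' h).base (abCo _ (pullOnCo g U U' h F)) p x := by
  refine (mapH_pullMod (g.resLE U U' h) (CohPull.pullOnIso g U U' h F).hom p x).trans ?_
  rw [pullOnIso_hom]
  rfl

theorem image_resLE_preimage_le (W : U.toScheme.Opens) :
    U'.ι ''ᵁ ((g.resLE U U' h) ⁻¹ᵁ W) ≤ g ⁻¹ᵁ (U.ι ''ᵁ W) :=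
  image_preimage_le_sq _ _ _ _ (Scheme.Hom.resLE_comp_ι g h) W

/-- The cohomomorphism of `pullOn` is the unit followed by restriction. -/
theorem pullOnCo_app (W : U.toScheme.Opens) (s : Γ(F.restrict U.ι, W)) :
    (pullOnCo g U U' h F).app W s =
      ((pullback g).obj F).presheaf.map (homOfLE (image_resLE_preimage_le g U U' h W)).op
        (((pullbackPushforwardAdjunction g).unit.app F).app (U.ι ''ᵁ W) s) :=
  sqCo_app _ _ _ _ _ F W s

end pullOn

theorem mapH_cpull {A : Scheme.{u}} {B : Scheme.{u}} (k : A ⟶ B) {M : B.Modules} {N N' : A.Modules}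
    (b : M ⟶ (pushforward k).obj N) (a : N ⟶ N') (p : ℕ) (x : Coh.HH B M p) :
    CohPull.mapH a p (cpull k.base (abCo k b) p x) =
      cpull k.base (abCo k (b ≫ (pushforward k).map a)) p x := by
  refine (map_cpull k.base (abCo k b) ((toAbFunctor A).map a) p x).trans ?_
  refine congrArg (fun η => cpull k.base η p x) ?_
  ext : 1
  rfl

theorem mapH_cpull_pullOn (g : X ⟶ Y) (U : Y.Opens) (U' : X.Opens) (h : U' ≤ g ⁻¹ᵁ U) (F : Y.Modules)
    {N : U'.toScheme.Modules} (a : ((pullback g).obj F).restrict U'.ι ⟶ N) (p : ℕ)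
    (x : Coh.HHon Y F U p) :
    CohPull.mapH a p (CohPull.pullOn g U U' h F p x) =
      cpull (g.resLE U U' h).base (abCo _ (pullOnCo g U U' h F ≫ (pushforward (g.resLE U U' h)).map a))
        p x :=
  (congrArg (CohPull.mapH a p) (pullOn_eq_cpull g U U' h F p x)).trans (mapH_cpull _ _ a p x)

theorem cpull_congr {A B : TopCat.{u}} {φ φ' : A ⟶ B} (e : φ = φ') {M : CohTop.Ab B}
    {M' : CohTop.Ab A} (η : M ⟶ (CohTop.push φ).obj M') (η' : M ⟶ (CohTop.push φ').obj M')
    (h : ∀ (W : Opens B) (s : M.obj.obj (op W)), M'.obj.map (eqToHom (e ▸ rfl : (Opens.map φ').obj W =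
      (Opens.map φ).obj W)).op (η.hom.app (op W) s) = η'.hom.app (op W) s) (p : ℕ) (x : Sheaf.H M p) :
    cpull φ η p x = cpull φ' η' p x := by
  subst e
  have : η = η' := by
    ext W s
    exact (congr($(M'.obj.map_id _) (η.hom.app W s))).symm.trans (h W.unop s)
  rw [this]

section secCo

variable {U : Y.Opens} {U' : X.Opens} {T : Z.Opens} {F : Y.Modules} {G : X.Modules}

/-- `η` is the map of sections of `u` followed by restriction. -/
def IsSecCo (g : X ⟶ Y) (k : U'.toScheme ⟶ U.toScheme) (u : F ⟶ (pushforward g).obj G)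
    (η : F.restrict U.ι ⟶ (pushforward k).obj (G.restrict U'.ι)) : Prop :=
  ∀ (W : U.toScheme.Opens) (s : Γ(F, U.ι ''ᵁ W)), ∃ le : U'.ι ''ᵁ (k ⁻¹ᵁ W) ≤ g ⁻¹ᵁ (U.ι ''ᵁ W),
    η.app W s = G.presheaf.map (homOfLE le).op (u.app (U.ι ''ᵁ W) s)

/-- Composition of maps given by restriction of sections. -/
theorem cpull_secCo_comp {g : X ⟶ Y} {g' : Y ⟶ Z} {g'' : X ⟶ Z} {k : U'.toScheme ⟶ U.toScheme}
    {k' : U.toScheme ⟶ T.toScheme} {k'' : U'.toScheme ⟶ T.toScheme} {E : Z.Modules}
    {u : E ⟶ (pushforward g').obj F} {u' : F ⟶ (pushforward g).obj G}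
    {u'' : E ⟶ (pushforward g'').obj G}
    {η : E.restrict T.ι ⟶ (pushforward k').obj (F.restrict U.ι)}
    {η' : F.restrict U.ι ⟶ (pushforward k).obj (G.restrict U'.ι)}
    {ζ : E.restrict T.ι ⟶ (pushforward k'').obj (G.restrict U'.ι)}
    (hη : IsSecCo g' k' u η) (hη' : IsSecCo g k u' η') (hζ : IsSecCo g'' k'' u'' ζ)
    (hg : g ≫ g' = g'') (hk : k ≫ k' = k'')
    (hu : ∀ (S : Z.Opens) (s : Γ(E, S)) (le : g'' ⁻¹ᵁ S ≤ g ⁻¹ᵁ (g' ⁻¹ᵁ S)), u''.app S s =
      G.presheaf.map (homOfLE le).op (u'.app (g' ⁻¹ᵁ S) (u.app S s)))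
    (p : ℕ) (x : Coh.HHon Z E T p) :
    cpull k.base (abCo k η') p (cpull k'.base (abCo k' η) p x) =
      cpull k''.base (abCo k'' ζ) p x := by
  subst hg hk
  refine (cpull_cpull k.base k'.base (abCo k' η) (abCo k η') _ rfl p x).trans ?_
  refine cpull_congr rfl _ _ (fun W s => ?_) p x
  obtain ⟨l₁, e₁⟩ := hη W s
  obtain ⟨l₂, e₂⟩ := hη' (k' ⁻¹ᵁ W) (η.app W s)
  obtain ⟨l₃, e₃⟩ := hζ W s
  refine (congr($((G.restrict U'.ι).presheaf.map_id _) (η'.app (k' ⁻¹ᵁ W) (η.app W s)))).trans ?_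
  refine e₂.trans ?_
  rw [e₁, map_app_comm, pushforward_obj_presheaf_map]
  refine Eq.trans ?_ e₃.symm
  refine Eq.trans ?_ (congrArg _ (hu (T.ι ''ᵁ W) s le_rfl)).symm
  refine (map_map_eq G _ _ (homOfLE (l₂.trans (g.preimage_mono l₁))) _).trans ?_
  exact (map_map_eq G _ _ _ _).symm

theorem pullOnCo_isSecCo (g : X ⟶ Y) (h : U' ≤ g ⁻¹ᵁ U) (F : Y.Modules) :
    IsSecCo g (g.resLE U U' h) ((pullbackPushforwardAdjunction g).unit.app F) (pullOnCo g U U' h F) :=
  fun W s => ⟨image_resLE_preimage_le g U U' h W, pullOnCo_app g U U' h F W s⟩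

end secCo

section res

variable (F : X.Modules) {U U' : X.Opens} (h : U' ≤ U)

theorem le_preimage_id {U U' : X.Opens} (h : U' ≤ U) : U' ≤ (𝟙 X : X ⟶ X) ⁻¹ᵁ U := by
  rwa [Scheme.Hom.id_preimage]

/-- The cohomomorphism behind `CohPull.resLE`. -/
noncomputable def resCo :
    F.restrict U.ι ⟶ (pushforward ((𝟙 X : X ⟶ X).resLE U U' (le_preimage_id h))).obj (F.restrict U'.ι) :=
  pullOnCo (𝟙 X) U U' (le_preimage_id h) F ≫
    (pushforward ((𝟙 X : X ⟶ X).resLE U U' (le_preimage_id h))).map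
      ((restrictFunctor U'.ι).map ((pullbackId X).hom.app F))

theorem resLE_eq_cpull (p : ℕ) (x : Coh.HHon X F U p) :
    CohPull.resLE F h p x =
      cpull ((𝟙 X : X ⟶ X).resLE U U' (le_preimage_id h)).base (abCo _ (resCo F h)) p x := by
  unfold CohPull.resLE resCo
  rw [AddMonoidHom.comp_apply]
  exact mapH_cpull_pullOn (𝟙 X) U U' (le_preimage_id h) F
    ((restrictFunctor U'.ι).map ((pullbackId X).hom.app F)) p x

theorem resCo_app (W : U.toScheme.Opens) (s : Γ(F.restrict U.ι, W)) :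
    (resCo F h).app W s =
      F.presheaf.map (homOfLE (image_resLE_preimage_le (𝟙 X) U U' (le_preimage_id h) W)).op s := by
  let k := (𝟙 X : X ⟶ X).resLE U U' (le_preimage_id h)
  have h1 : ((pullbackId X).hom.app F).app (U'.ι ''ᵁ (k ⁻¹ᵁ W))
      ((pullOnCo (𝟙 X) U U' (le_preimage_id h) F).app W s) = _ :=
    congrArg _ (pullOnCo_app (𝟙 X) U U' (le_preimage_id h) F W s)
  refine h1.trans ((map_app_comm ((pullbackId X).hom.app F) _ _).trans (congrArg _ ?_))
  have h2 := unit_conjugateEquiv Adjunction.id (pullbackPushforwardAdjunction (𝟙 X)) (pullbackId X).hom F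
  rw [conjugateEquiv_pullbackId_hom] at h2
  exact (congr(($h2).app (U.ι ''ᵁ W) s)).symm

end res

theorem resLE_comp_resLE_hom (g : X ⟶ Y) {U : Y.Opens} {U' U'' : X.Opens} (h : U' ≤ g ⁻¹ᵁ U)
    (h' : U'' ≤ U') :
    ((𝟙 X : X ⟶ X).resLE U' U'' (le_preimage_id h')) ≫ g.resLE U U' h =
      g.resLE U U'' (h'.trans h) := by
  rw [← cancel_mono U.ι, Category.assoc, Scheme.Hom.resLE_comp_ι, Scheme.Hom.resLE_comp_ι,
    Scheme.Hom.resLE_comp_ι_assoc, Category.id_comp]

theorem comp_resLE_resLE_hom (g : X ⟶ Y) {U V : Y.Opens} {U'' : X.Opens} (h' : V ≤ U)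
    (h : U'' ≤ g ⁻¹ᵁ V) :
    g.resLE V U'' h ≫ ((𝟙 Y : Y ⟶ Y).resLE U V (le_preimage_id h')) =
      g.resLE U U'' (h.trans (g.preimage_mono h')) := by
  rw [← cancel_mono U.ι, Category.assoc, Scheme.Hom.resLE_comp_ι, Scheme.Hom.resLE_comp_ι,
    Scheme.Hom.resLE_comp_ι_assoc, Category.comp_id]

theorem pushforwardId_inv_apply (F : X.Modules) (S : X.Opens) (s : Γ(F, S)) :
    ((pushforwardId X).inv.app F).app S s = s :=
  congr($(pushforwardId_inv_app_app (X := X) (M := F) (U := S)) s)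

theorem map_id_apply' (M : X.Modules) (S : X.Opens) (e : S ⟶ S) (s : Γ(M, S)) :
    M.presheaf.map e.op s = s := by
  rw [Subsingleton.elim e (𝟙 S), op_id]
  exact congr($(M.presheaf.map_id _) s)

theorem resCo_isSecCo (F : X.Modules) {U U' : X.Opens} (h : U' ≤ U) :
    IsSecCo (𝟙 X) ((𝟙 X : X ⟶ X).resLE U U' (le_preimage_id h)) ((pushforwardId X).inv.app F)
      (resCo F h) :=
  fun W s => ⟨image_resLE_preimage_le (𝟙 X) U U' (le_preimage_id h) W, resCo_app F h W s⟩

/-- Restriction after a map given by sections. -/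
theorem resLE_cpull_secCo {g : X ⟶ Y} {U : Y.Opens} {U' U'' : X.Opens} (h : U' ≤ g ⁻¹ᵁ U)
    (h' : U'' ≤ U') {F : Y.Modules} {G : X.Modules} {u : F ⟶ (pushforward g).obj G}
    {η : F.restrict U.ι ⟶ (pushforward (g.resLE U U' h)).obj (G.restrict U'.ι)}
    {ζ : F.restrict U.ι ⟶ (pushforward (g.resLE U U'' (h'.trans h))).obj (G.restrict U''.ι)}
    (hη : IsSecCo g (g.resLE U U' h) u η) (hζ : IsSecCo g (g.resLE U U'' (h'.trans h)) u ζ)
    (p : ℕ) (x : Coh.HHon Y F U p) :
    CohPull.resLE G h' p (cpull (g.resLE U U' h).base (abCo _ η) p x) =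
      cpull (g.resLE U U'' (h'.trans h)).base (abCo _ ζ) p x :=
  (resLE_eq_cpull G h' p _).trans
    (cpull_secCo_comp hη (resCo_isSecCo G h') hζ (Category.id_comp g) (resLE_comp_resLE_hom g h h')
      (fun S s le => by
        refine Eq.trans ?_ (congrArg _ (pushforwardId_inv_apply G (g ⁻¹ᵁ S) _).symm)
        exact (map_id_apply' G (g ⁻¹ᵁ S) (homOfLE le) _).symm) p x)

/-- Restriction after pullback. -/
theorem resLE_pullOn (g : X ⟶ Y) {U : Y.Opens} {U' U'' : X.Opens} (h : U' ≤ g ⁻¹ᵁ U) (h' : U'' ≤ U')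
    (F : Y.Modules) (p : ℕ) (x : Coh.HHon Y F U p) :
    CohPull.resLE ((pullback g).obj F) h' p (CohPull.pullOn g U U' h F p x) =
      CohPull.pullOn g U U'' (h'.trans h) F p x :=
  ((congrArg (CohPull.resLE ((pullback g).obj F) h' p) (pullOn_eq_cpull g U U' h F p x)).trans
    (resLE_cpull_secCo h h' (pullOnCo_isSecCo g h F) (pullOnCo_isSecCo g (h'.trans h) F) p x)).trans
      (pullOn_eq_cpull g U U'' (h'.trans h) F p x).symm

/-- Pullback after restriction. -/
theorem pullOn_resLE (g : X ⟶ Y) {U V : Y.Opens} {U'' : X.Opens} (h' : V ≤ U) (h : U'' ≤ g ⁻¹ᵁ V)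
    (F : Y.Modules) (p : ℕ) (x : Coh.HHon Y F U p) :
    CohPull.pullOn g V U'' h F p (CohPull.resLE F h' p x) =
      CohPull.pullOn g U U'' (h.trans (g.preimage_mono h')) F p x := by
  refine ((congrArg (CohPull.pullOn g V U'' h F p) (resLE_eq_cpull F h' p x)).trans
    (pullOn_eq_cpull g V U'' h F p _)).trans
      (Eq.trans ?_ (pullOn_eq_cpull g U U'' (h.trans (g.preimage_mono h')) F p x).symm)
  exact cpull_secCo_comp (resCo_isSecCo F h') (pullOnCo_isSecCo g h F)
    (pullOnCo_isSecCo g (h.trans (g.preimage_mono h')) F) (Category.comp_id g)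
    (comp_resLE_resLE_hom g h' h)
    (fun S s le => by
      refine Eq.trans ?_ (congrArg _ (congrArg _ (pushforwardId_inv_apply F S s).symm))
      exact (map_id_apply' ((pullback g).obj F) (g ⁻¹ᵁ S) (homOfLE le) _).symm) p x

/-- Restrictions compose. -/
theorem resLE_resLE (F : X.Modules) {U U' U'' : X.Opens} (h : U' ≤ U) (h' : U'' ≤ U') (p : ℕ)
    (x : Coh.HHon X F U p) :
    CohPull.resLE F h' p (CohPull.resLE F h p x) = CohPull.resLE F (h'.trans h) p x := by
  refine ((congrArg (CohPull.resLE F h' p) (resLE_eq_cpull F h p x)).trans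
    (resLE_eq_cpull F h' p _)).trans (Eq.trans ?_ (resLE_eq_cpull F (h'.trans h) p x).symm)
  exact cpull_secCo_comp (resCo_isSecCo F h) (resCo_isSecCo F h') (resCo_isSecCo F (h'.trans h))
    (Category.id_comp _) (resLE_comp_resLE_hom (𝟙 X) (le_preimage_id h) h')
    (fun S s le => by
      refine (pushforwardId_inv_apply F S s).trans ?_
      refine Eq.trans ?_ (congrArg _ (pushforwardId_inv_apply F S _).symm)
      refine Eq.trans ?_ (congrArg _ (pushforwardId_inv_apply F S s).symm)
      exact (map_id_apply' F S (homOfLE le) s).symm) p x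

end Groth.Agent.CohH33
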