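import Groth.Agent.CohH33.CPull
import Groth.Agent.QCoh.RpushGod
import Groth.Agent.QCoh.Bound

/-!
# The edge map `H^p(Y, f_*G) → H^p(X, G)`
-/

universe u

set_option backward.isDefEq.respectTransparency.types false
set_option maxHeartbeats 800000

open CategoryTheory CategoryTheory.Limits AlgebraicGeometry TopologicalSpace Opposite
open Groth.Agent.QCoh Groth.Agent.QCoh.Ab

namespace Groth.Agent.CohH33

variable {X Y : Scheme.{u}}

/-- The underlying cohomomorphism of a map `M ⟶ g_* N` of modules. -/
noncomputable abbrev abCo (g : X ⟶ Y) {M : Y.Modules} {N : X.Modules}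
    (a : M ⟶ (Scheme.Modules.pushforward g).obj N) :
    Coh.toAb M ⟶ (CohTop.push g.base).obj (Coh.toAb N) :=
  (toAbFunctor Y).map a

theorem pullMod_eq_cpull (g : X ⟶ Y) (M : Y.Modules) (p : ℕ) :
    CohPull.pullMod g M p =
      cpull g.base (abCo g ((Scheme.Modules.pullbackPushforwardAdjunction g).unit.app M)) p :=
  rfl

theorem mapH_pullMod (g : X ⟶ Y) {M : Y.Modules} {N : X.Modules}
    (a : (Scheme.Modules.pullback g).obj M ⟶ N) (p : ℕ) (x : Coh.HH Y M p) :
    CohPull.mapH a p (CohPull.pullMod g M p x) =
      cpull g.base (abCo g ((Scheme.Modules.pullbackPushforwardAdjunction g).homEquiv M N a)) p x := by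
  rw [Adjunction.homEquiv_unit]
  refine (map_cpull g.base
    (abCo g ((Scheme.Modules.pullbackPushforwardAdjunction g).unit.app M))
    ((toAbFunctor X).map a) p x).trans ?_
  refine congrArg (fun η => cpull g.base η p x) ?_
  ext : 1
  rfl

/-- The edge map is `cpull` of the identity. -/
theorem pushEdge_eq_cpull (f : X ⟶ Y) (G : X.Modules) (p : ℕ)
    (x : Coh.HH Y ((Scheme.Modules.pushforward f).obj G) p) :
    CohPull.pushEdge f G p x =
      cpull f.base (abCo f (𝟙 ((Scheme.Modules.pushforward f).obj G))) p x := by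
  refine (mapH_pullMod f ((Scheme.Modules.pullbackPushforwardAdjunction f).counit.app G) p x).trans ?_
  refine congrArg (fun a => cpull f.base (abCo f a) p x) ?_
  rw [Adjunction.homEquiv_unit]
  exact (Scheme.Modules.pullbackPushforwardAdjunction f).right_triangle_components G

theorem bijective_pushEdge_zero (f : X ⟶ Y) (G : X.Modules) :
    Function.Bijective (CohPull.pushEdge f G 0) := by
  have h : (CohPull.pushEdge f G 0 : Coh.HH Y _ 0 → Coh.HH X G 0) =
      (Sheaf.H.equiv₀ (Coh.toAb G) isTerminalTop).symm ∘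
        fun x => Sheaf.H.equiv₀ (Coh.toAb ((Scheme.Modules.pushforward f).obj G)) isTerminalTop x := by
    funext x
    apply (Sheaf.H.equiv₀ (Coh.toAb G) isTerminalTop).injective
    rw [pushEdge_eq_cpull, equiv₀_cpull, Function.comp_apply, AddEquiv.apply_symm_apply]
    rfl
  rw [h]
  exact (AddEquiv.bijective _).comp (AddEquiv.bijective _)

/-- One step of dimension shifting for the edge map. -/
theorem bijective_pushEdge_succ (f : X ⟶ Y) (n : ℕ) {S : ShortComplex X.Modules} (hS : S.ShortExact)
    (hFS : (S.map (Scheme.Modules.pushforward f)).ShortExact) (hfl : IsFlasqueMod S.X₂)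
    (hI : Function.Bijective (CohPull.pushEdge f S.X₂ n))
    (hQ : Function.Bijective (CohPull.pushEdge f S.X₃ n)) :
    Function.Bijective (CohPull.pushEdge f S.X₁ (n + 1)) := by
  let F := Scheme.Modules.pushforward f
  have hA := toAb_shortExact hS
  have hB := toAb_shortExact hFS
  have hv : Subsingleton (CohTop.H (S.map (toAbFunctor X)).X₂ (n + 1)) :=
    have := hfl
    SiteBase.subsingleton_H_of_isFlasque (X := X.toPresheafedSpace.carrier) (abSheaf S.X₂) n
  have hv' : Subsingleton (CohTop.H ((S.map F).map (toAbFunctor Y)).X₂ (n + 1)) :=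
    have : TopCat.Sheaf.IsFlasque (X := Y.toPresheafedSpace.carrier)
        ((CohTop.push f.base).obj (Coh.toAb S.X₂)) :=
      { epi := fun {U V} i => hfl.epi ((Opens.map f.base).map i.unop).op }
    SiteBase.subsingleton_H_of_isFlasque (X := Y.toPresheafedSpace.carrier)
      ((CohTop.push f.base).obj (Coh.toAb S.X₂)) n
  have hd : ∀ y, CohPull.pushEdge f S.X₁ (n + 1) (connecting hB n y) =
      connecting hA n (CohPull.pushEdge f S.X₃ n y) := by
    intro y
    rw [pushEdge_eq_cpull, pushEdge_eq_cpull]
    refine cpull_connecting (X := X.toPresheafedSpace.carrier) (Y := Y.toPresheafedSpace.carrier) f.base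
      (S := (S.map F).map (toAbFunctor Y)) (S' := S.map (toAbFunctor X)) hB hA
      (abCo f (𝟙 (F.obj S.X₁))) (abCo f (𝟙 (F.obj S.X₂))) (abCo f (𝟙 (F.obj S.X₃))) ?_ ?_ n y
    · ext : 1; rfl
    · ext : 1; rfl
  have hn : ∀ z, Sheaf.H.map (S.map (toAbFunctor X)).g n (CohPull.pushEdge f S.X₂ n z) =
      CohPull.pushEdge f S.X₃ n (Sheaf.H.map ((S.map F).map (toAbFunctor Y)).g n z) := by
    intro z
    rw [pushEdge_eq_cpull, pushEdge_eq_cpull]
    refine cpull_natural (X := X.toPresheafedSpace.carrier) (Y := Y.toPresheafedSpace.carrier) f.base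
      (abCo f (𝟙 (F.obj S.X₂))) (abCo f (𝟙 (F.obj S.X₃)))
      ((toAbFunctor Y).map (F.map S.g)) ((toAbFunctor X).map S.g) ?_ n z
    ext : 1; rfl
  refine ⟨(injective_iff_map_eq_zero _).2 fun x hx => ?_, fun x => ?_⟩
  · obtain ⟨y, rfl⟩ := connecting_surjective hB n hv' x
    rw [hd] at hx
    obtain ⟨z, hz⟩ := (connecting_eq_zero_iff hA n _).1 hx
    obtain ⟨z', rfl⟩ := hI.2 z
    exact (connecting_eq_zero_iff hB n y).2 ⟨z', hQ.1 ((hn z').symm.trans hz)⟩
  · obtain ⟨y, rfl⟩ := connecting_surjective hA n hv x
    obtain ⟨y', rfl⟩ := hQ.2 y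
    exact ⟨_, hd y'⟩

theorem bijective_pushEdge (f : X ⟶ Y) [HasInjectiveResolutions X.Modules] (p : ℕ) :
    ∀ G : X.Modules, (∀ q : ℕ, 0 < q → IsZero ((Coh.Rpush f q).obj G)) →
      Function.Bijective (CohPull.pushEdge f G p) := by
  have := SpObjSS.enoughInjectives_of_hasInjectiveResolutions (C := X.Modules)
  have := preservesFiniteLimits_push f
  induction p with
  | zero => exact fun G _ => bijective_pushEdge_zero f G
  | succ n ih =>
    intro G hG
    obtain ⟨S, hS, hinj, rfl⟩ : ∃ S : ShortComplex X.Modules,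
        S.ShortExact ∧ Injective S.X₂ ∧ S.X₁ = G :=
      ⟨ShortComplex.mk (Injective.ι G) (cokernel.π (Injective.ι G)) (cokernel.condition _),
        { exact := ShortComplex.exact_of_g_is_cokernel _ (cokernelIsCokernel _) },
        Injective.injective_under G, rfl⟩
    have hfl : IsFlasqueMod S.X₂ := isFlasqueMod_of_injective _
    let F := Scheme.Modules.pushforward f
    have hE : Epi (F.map S.g) := by
      obtain ⟨e⟩ := nonempty_R1_iso F hS (F.isZero_rightDerived_obj_injective_succ 0 S.X₂)
      exact Preadditive.epi_of_isZero_cokernel _ ((hG 1 one_pos).of_iso e.symm)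
    have hFS : (S.map F).ShortExact := by
      have := hS.mono_f
      have : Mono (S.map F).f := inferInstanceAs (Mono (F.map S.f))
      have : Epi (S.map F).g := hE
      exact
        { exact := ShortComplex.exact_of_f_is_kernel _
            (KernelFork.mapIsLimit _ hS.fIsKernel F) }
    have hQ : ∀ q : ℕ, 0 < q → IsZero ((Coh.Rpush f q).obj S.X₃) := by
      intro q hq
      obtain ⟨i, rfl⟩ := Nat.exists_eq_succ_of_ne_zero hq.ne'
      obtain ⟨e⟩ := nonempty_shift_iso F hS i (F.isZero_rightDerived_obj_injective_succ i S.X₂)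
        (F.isZero_rightDerived_obj_injective_succ (i + 1) S.X₂)
      exact (hG (i + 2) (by omega)).of_iso e
    have hI : ∀ q : ℕ, 0 < q → IsZero ((Coh.Rpush f q).obj S.X₂) := by
      intro q hq
      obtain ⟨i, rfl⟩ := Nat.exists_eq_succ_of_ne_zero hq.ne'
      exact F.isZero_rightDerived_obj_injective_succ i S.X₂
    exact @bijective_pushEdge_succ _ _ f n S hS hFS hfl (ih S.X₂ hI) (ih S.X₃ hQ)

/-- For an affine morphism and a quasi-coherent module the edge map is bijective. -/
theorem bijective_pushEdge_of_isAffineHom (f : X ⟶ Y) [IsAffineHom f] {M : X.Modules}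
    (hM : Coh.IsQCoh M) (p : ℕ) :
    ∀ k, Function.Bijective (CohPull.pushEdge f (godQ M k) p) := by
  have hflI : ∀ N : X.Modules, IsFlasqueMod (God N) := isFlasqueMod_God
  induction p with
  | zero => exact fun k => bijective_pushEdge_zero f _
  | succ n ih =>
    intro k
    have hE : Epi ((Scheme.Modules.pushforward f).map (godSES M k).g) := by
      refine ⟨fun {L} a b e => ?_⟩
      refine sub_eq_zero.1 (Scheme.Modules.hom_ext _ _ fun U => ?_)
      ext x
      refine eq_zero_of_locally U _ fun y hy => ?_
      obtain ⟨_, ⟨V, hV, rfl⟩, hyV, hVU⟩ :=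
        Y.isBasis_affineOpens.exists_subset_of_mem_open hy U.2
      refine ⟨V, homOfLE hVU, hyV, ?_⟩
      rw [← map_app_comm]
      obtain ⟨z, hz⟩ := godπ_app_surjective (M := M) (n := k)
        (subsingleton_HU_of_isAffineOpen hM (hV.preimage f) k)
        (rs (godQ M (k + 1)) (f.preimage_mono hVU) x)
      have h0 := congr(($e).app V z)
      show a.app V _ - b.app V _ = 0
      rw [sub_eq_zero]
      exact ((congrArg (a.app V) hz).symm.trans h0).trans (congrArg (b.app V) hz)
    have hFS : ((godSES M k).map (Scheme.Modules.pushforward f)).ShortExact := by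
      have := (Scheme.Modules.pullbackPushforwardAdjunction f).isRightAdjoint
      have := (godSES_shortExact M k).mono_f
      have : Mono ((godSES M k).map (Scheme.Modules.pushforward f)).f :=
        inferInstanceAs (Mono ((Scheme.Modules.pushforward f).map (godSES M k).f))
      have : Epi ((godSES M k).map (Scheme.Modules.pushforward f)).g := hE
      exact
        { exact := ShortComplex.exact_of_f_is_kernel _
            (KernelFork.mapIsLimit _ (godSES_shortExact M k).fIsKernel (Scheme.Modules.pushforward f)) }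
    refine @bijective_pushEdge_succ _ _ f n (godSES M k) (godSES_shortExact M k) hFS (hflI (godQ M k)) ?_
      (ih (k + 1))
    cases n with
    | zero => exact bijective_pushEdge_zero f _
    | succ m =>
      have h₁ : Subsingleton (Coh.HH X (God (godQ M k)) (m + 1)) :=
        have := hflI (godQ M k)
        SiteBase.subsingleton_H_of_isFlasque (X := X.toPresheafedSpace.carrier) (abSheaf (God (godQ M k))) m
      have h₂ : Subsingleton (Coh.HH Y ((Scheme.Modules.pushforward f).obj (God (godQ M k))) (m + 1)) :=
        have : TopCat.Sheaf.IsFlasque (X := Y.toPresheafedSpace.carrier)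
            ((CohTop.push f.base).obj (Coh.toAb (God (godQ M k)))) :=
          { epi := fun {U V} i => (hflI (godQ M k)).epi ((Opens.map f.base).map i.unop).op }
        SiteBase.subsingleton_H_of_isFlasque (X := Y.toPresheafedSpace.carrier)
          ((CohTop.push f.base).obj (Coh.toAb (God (godQ M k)))) m
      exact ⟨fun a b _ => h₂.elim a b, fun a => ⟨0, h₁.elim _ _⟩⟩

end Groth.Agent.CohH33
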