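import Groth.Agent.CohH33.SectBasic

/-!
# The comparison is bijective over affine opens for quasi-coherent modules
-/

universe u

set_option backward.isDefEq.respectTransparency.types false
set_option maxHeartbeats 800000

open CategoryTheory AlgebraicGeometry AlgebraicGeometry.Scheme.Modules
open TopologicalSpace Opposite
open Groth.Agent.QCoh

namespace Groth.Agent.CohH33

variable {X Y : Scheme.{u}} {f : X ⟶ Y} [HasInjectiveResolutions X.Modules]
  {Δ : RDer.DerivedLES (pushforward f)} (E : CohCmp.SectCmp f Δ)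

theorem bijective_ε_zero (V : Y.Opens) (F : X.Modules) : Function.Bijective (E.ε V F 0) := by
  have := SpObjSS.enoughInjectives_of_hasInjectiveResolutions (C := X.Modules)
  have := preservesFiniteLimits_push f
  have h : (E.ε V F 0 : _ → _) = (fun t => ((pushforward f).toRightDerivedZero.app F).app V t) ∘
      (CohPull.sectH0 F (f ⁻¹ᵁ V)).symm := by
    funext x
    obtain ⟨s, rfl⟩ := (CohPull.sectH0 F (f ⁻¹ᵁ V)).surjective x
    rw [Function.comp_apply, AddEquiv.symm_apply_apply]
    exact E.zero V F s
  rw [h]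
  exact (ConcreteCategory.bijective_of_isIso (((pushforward f).toRightDerivedZero.app F).app V)).comp
    (AddEquiv.bijective _)

/-- The first connecting map is a cokernel. -/
theorem exists_cokerIso_δ_zero (Δ : RDer.DerivedLES (pushforward f)) {S : ShortComplex X.Modules}
    (hS : S.ShortExact) (hz : Limits.IsZero ((Coh.Rpush f 1).obj S.X₂)) :
    ∃ c : Limits.cokernel ((pushforward f).map S.g) ≅ (Coh.Rpush f 1).obj S.X₁,
      Limits.cokernel.π ((pushforward f).map S.g) ≫ c.hom =
        (pushforward f).toRightDerivedZero.app S.X₃ ≫ Δ.δ S hS 0 1 rfl := by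
  have := SpObjSS.enoughInjectives_of_hasInjectiveResolutions (C := X.Modules)
  have := preservesFiniteLimits_push f
  have hepi : Epi (Δ.δ S hS 0 1 rfl) := (Δ.exact₁ S hS 0 1 rfl).epi_f (hz.eq_of_tgt _ _)
  let η := (pushforward f).toRightDerivedZero
  let t := η.app S.X₃ ≫ Δ.δ S hS 0 1 rfl
  have wt : (pushforward f).map S.g ≫ t = 0 :=
    ((Category.assoc _ _ _).symm.trans ((congrArg (· ≫ Δ.δ S hS 0 1 rfl) (η.naturality S.g)).trans
      (Category.assoc _ _ _))).trans ((congrArg (η.app S.X₂ ≫ ·) (Δ.comp_δ S hS 0 1 rfl)).trans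
        Limits.comp_zero)
  let e : ShortComplex.mk ((pushforward f).map S.g) t wt ≅
      ShortComplex.mk (((pushforward f).rightDerived 0).map S.g) (Δ.δ S hS 0 1 rfl) (Δ.comp_δ S hS 0 1 rfl) :=
    ShortComplex.isoMk (asIso (η.app S.X₂)) (asIso (η.app S.X₃)) (Iso.refl _) (η.naturality S.g).symm
      (Category.comp_id _).symm
  have hex := (ShortComplex.exact_iff_of_iso e).2 (Δ.exact₃ S hS 0 1 rfl)
  have : Epi t := epi_comp _ _
  exact ⟨(Limits.cokernelIsCokernel _).coconePointUniqueUpToIso hex.gIsCokernel,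
    Limits.IsColimit.comp_coconePointUniqueUpToIso_hom (Limits.cokernelIsCokernel _) hex.gIsCokernel
      Limits.WalkingParallelPair.one⟩

/-- Surjectivity and kernel of the connecting map on sections over an affine open. -/
theorem δ_app_affine [QuasiCompact f] [QuasiSeparated f] (Δ : RDer.DerivedLES (pushforward f))
    {M : X.Modules} (hM : Coh.IsQCoh M) {V : Y.Opens} (hV : IsAffineOpen V) (n k : ℕ) :
    Function.Surjective ((Δ.δ (godSES M k) (godSES_shortExact M k) n (n + 1) rfl).app V) ∧
      ∀ w, (Δ.δ (godSES M k) (godSES_shortExact M k) n (n + 1) rfl).app V w = 0 →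
        ∃ v, ((Coh.Rpush f n).map (godSES M k).g).app V v = w := by
  have := SpObjSS.enoughInjectives_of_hasInjectiveResolutions (C := X.Modules)
  have := preservesFiniteLimits_push f
  have hz : ∀ i, Limits.IsZero ((Coh.Rpush f (i + 1)).obj (godSES M k).X₂) := fun i =>
    isZero_Rpush_of_flasque f _ (isFlasqueMod_God _) i
  let δ := Δ.δ (godSES M k) (godSES_shortExact M k) n (n + 1) rfl
  have hepi : Epi δ := (Δ.exact₁ _ (godSES_shortExact M k) n (n + 1) rfl).epi_f ((hz n).eq_of_tgt _ _)
  cases n with
  | succ m =>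
    have hmono : Mono δ := (Δ.exact₃ _ (godSES_shortExact M k) (m + 1) (m + 2) rfl).mono_g
      ((hz m).eq_of_src _ _)
    have : IsIso δ := isIso_of_mono_of_epi δ
    have hb := ConcreteCategory.bijective_of_isIso (δ.app V)
    exact ⟨hb.2, fun w hw => ⟨0, by rw [map_zero]; exact (hb.1 (hw.trans (map_zero _).symm)).symm⟩⟩
  | zero =>
    obtain ⟨c, hc⟩ := exists_cokerIso_δ_zero Δ (godSES_shortExact M k) (hz 0)
    have hl : LocRange ((pushforward f).map (godSES M k).g) := locRange_rpushModel f hM k
    let η := (pushforward f).toRightDerivedZero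
    have hη := ConcreteCategory.bijective_of_isIso ((η.app (godSES M k).X₃).app V)
    have hcb := ConcreteCategory.bijective_of_isIso (c.hom.app V)
    have hct : ∀ z, c.hom.app V ((Limits.cokernel.π ((pushforward f).map (godSES M k).g)).app V z) =
        δ.app V ((η.app (godSES M k).X₃).app V z) :=
      fun z => congr(($hc).app V z)
    constructor
    · intro y
      obtain ⟨y', rfl⟩ := hcb.2 y
      obtain ⟨z, rfl⟩ := hl.surjective hV y'
      exact ⟨_, (hct z).symm⟩
    · intro w hw
      obtain ⟨z, rfl⟩ := hη.2 w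
      obtain ⟨a, ha⟩ := hl.mem_range hV z (hcb.1 (((hct z).trans hw).trans (map_zero _).symm))
      refine ⟨(η.app (godSES M k).X₂).app V a, ?_⟩
      refine (congr(($(η.naturality (godSES M k).g)).app V a)).symm.trans ?_
      exact congrArg ((η.app (godSES M k).X₃).app V) ha

/-- The comparison is bijective over an affine open. -/
theorem bijective_ε_affine [QuasiCompact f] [QuasiSeparated f] {M : X.Modules} (hM : Coh.IsQCoh M)
    {V : Y.Opens} (hV : IsAffineOpen V) (n : ℕ) :
    ∀ k, Function.Bijective (E.ε V (godQ M k) n) := by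
  induction n with
  | zero => exact fun k => bijective_ε_zero E V _
  | succ n ih =>
    intro k
    have hS := godSES_shortExact M k
    have hA := toAbOn_shortExact (f ⁻¹ᵁ V) hS
    have hI : IsFlasqueMod (godSES M k).X₂ := isFlasqueMod_God _
    have hI' : Function.Bijective (E.ε V (godSES M k).X₂ n) := by
      cases n with
      | zero => exact bijective_ε_zero E V _
      | succ m =>
        have h₁ := isFlasque_subsingleton (f ⁻¹ᵁ V) hI m
        have h₂ := AddCommGrpCat.subsingleton_of_isZero
          (((toPresheaf Y).map_isZero (isZero_Rpush_of_flasque f _ hI m)).obj (op V))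
        exact ⟨fun a b _ => h₁.elim a b, fun a => ⟨0, h₂.elim _ _⟩⟩
    obtain ⟨hsurj, hker⟩ := δ_app_affine (f := f) Δ hM hV n k
    refine ⟨(injective_iff_map_eq_zero _).2 fun x hx => ?_, fun y => ?_⟩
    · obtain ⟨y, rfl⟩ := extδ_surjective _ hA hI n x
      have hd := E.delta V (godSES M k) hS hA n y
      obtain ⟨v, hv⟩ := hker _ (hd.symm.trans hx)
      obtain ⟨z, rfl⟩ := hI'.2 v
      have hy : CohPull.mapH ((restrictFunctor (f ⁻¹ᵁ V).ι).map (godSES M k).g) n z = y :=
        (ih (k + 1)).1 ((E.natural V (godSES M k).g n z).trans hv)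
      exact (Ab.connecting_eq_zero_iff hA n y).2 ⟨z, hy⟩
    · obtain ⟨w, rfl⟩ := hsurj y
      obtain ⟨x, rfl⟩ := (ih (k + 1)).2 w
      exact ⟨_, E.delta V (godSES M k) hS hA n x⟩

/-- The comparison is bijective over an affine open. -/
theorem bijective_ε [QuasiCompact f] [QuasiSeparated f] {M : X.Modules} (hM : Coh.IsQCoh M)
    {V : Y.Opens} (hV : IsAffineOpen V) (n : ℕ) : Function.Bijective (E.ε V M n) :=
  bijective_ε_affine E hM hV n 0

end Groth.Agent.CohH33
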