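import Groth.Prelude.Def_CohCmp
import Groth.Agent.CohH33.PullOn
import Groth.Agent.QCoh.RpushGod
import Groth.Agent.QCoh.RpushCoh
import Groth.Agent.QCoh.OpenSub

/-!
# Properties of the comparison `H^p(f⁻¹V, F) → Γ(V, R^p f_* F)`
-/

universe u

set_option backward.isDefEq.respectTransparency.types false
set_option maxHeartbeats 800000
set_option maxRecDepth 4000

open CategoryTheory AlgebraicGeometry AlgebraicGeometry.Scheme.Modules
open TopologicalSpace Opposite
open CategoryTheory.Limits (isTerminalTop)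
open Groth.Agent.QCoh

namespace Groth.Agent.CohH33

variable {X Y : Scheme.{u}}

theorem toAbOn_shortExact (U : X.Opens) {S : ShortComplex X.Modules} (hS : S.ShortExact) :
    (S.map (CohCmp.toAbOn X U)).ShortExact := by
  have := hS.mono_f
  have := hS.epi_g
  have : (restrictFunctor U.ι).IsLeftAdjoint := (restrictAdjunction U.ι).isLeftAdjoint
  have hR : (S.map (restrictFunctor U.ι)).ShortExact := by
    have : Mono (S.map (restrictFunctor U.ι)).f := mono_restrict_map U.ι S.f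
    have : Epi (S.map (restrictFunctor U.ι)).g :=
      inferInstanceAs (Epi ((restrictFunctor U.ι).map S.g))
    exact { exact := (ShortComplex.exact_of_g_is_cokernel _
      (Limits.CokernelCofork.mapIsColimit _ hS.gIsCokernel (restrictFunctor U.ι))) }
  exact toAb_shortExact hR

/-- The class of a section restricts to the class of its restriction. -/
theorem resLE_sectH0 (F : X.Modules) {U U' : X.Opens} (h : U' ≤ U) (s : Γ(F, U)) :
    CohPull.resLE F h 0 (CohPull.sectH0 F U s) =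
      CohPull.sectH0 F U' (F.presheaf.map (homOfLE h).op s) := by
  refine (resLE_eq_cpull F h 0 _).trans ?_
  apply (Sheaf.H.equiv₀ (Coh.toAb (F.restrict U'.ι)) isTerminalTop).injective
  refine (equiv₀_cpull _ _ _).trans ?_
  have e : ∀ (T : X.Opens) (t : Γ(F, T)),
      Sheaf.H.equiv₀ (Coh.toAb (F.restrict T.ι)) isTerminalTop (CohPull.sectH0 F T t) =
        F.presheaf.map (eqToHom T.ι_image_top).op t :=
    fun T t => AddEquiv.apply_symm_apply _ _
  refine Eq.trans ?_ (e U' _).symm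
  refine (congrArg ((resCo F h).app ⊤) (e U s)).trans ?_
  refine (resCo_app F h ⊤ _).trans ?_
  exact (map_map_eq F _ _ (homOfLE ((U'.ι_image_top).le.trans h)) _).trans (map_map_eq F _ _ _ _).symm

/-- Restriction commutes with connecting maps. -/
theorem resLE_extδ {U U' : X.Opens} (h : U' ≤ U) {S : ShortComplex X.Modules}
    (hA : (S.map (CohCmp.toAbOn X U)).ShortExact) (hA' : (S.map (CohCmp.toAbOn X U')).ShortExact)
    (p : ℕ) (x : Coh.HHon X S.X₃ U p) :
    CohPull.resLE S.X₁ h (p + 1) (CohCmp.extδ hA p x) =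
      CohCmp.extδ hA' p (CohPull.resLE S.X₃ h p x) := by
  refine (resLE_eq_cpull _ h _ _).trans (Eq.trans ?_ (congrArg _ (resLE_eq_cpull _ h p x)).symm)
  refine cpull_connecting _ hA hA' (abCo _ (resCo S.X₁ h)) (abCo _ (resCo S.X₂ h))
    (abCo _ (resCo S.X₃ h)) ?_ ?_ p x
  · ext W s
    refine (congrArg (S.f.app _) (resCo_app S.X₁ h W.unop s)).trans ?_
    refine (map_app_comm S.f _ s).trans ?_
    exact (resCo_app S.X₂ h W.unop _).symm
  · ext W s
    refine (congrArg (S.g.app _) (resCo_app S.X₂ h W.unop s)).trans ?_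
    refine (map_app_comm S.g _ s).trans ?_
    exact (resCo_app S.X₃ h W.unop _).symm

theorem isFlasque_subsingleton (U : X.Opens) {I : X.Modules} (hI : IsFlasqueMod I) (n : ℕ) :
    Subsingleton (Coh.HHon X I U (n + 1)) :=
  subsingleton_HH_restrict U.ι I n
    (have := hI; SiteBase.subsingleton_HU_of_isFlasque (X := X.toPresheafedSpace.carrier) (abSheaf I) _ n)

theorem extδ_surjective (U : X.Opens) {S : ShortComplex X.Modules}
    (hA : (S.map (CohCmp.toAbOn X U)).ShortExact) (hI : IsFlasqueMod S.X₂) (n : ℕ) :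
    Function.Surjective (CohCmp.extδ hA n) :=
  Ab.connecting_surjective hA n (isFlasque_subsingleton U hI n)

theorem exists_pres [EnoughInjectives X.Modules] (F : X.Modules) :
    ∃ S : ShortComplex X.Modules, S.ShortExact ∧ IsFlasqueMod S.X₂ ∧ S.X₁ = F :=
  ⟨ShortComplex.mk (Injective.ι F) (Limits.cokernel.π (Injective.ι F)) (Limits.cokernel.condition _),
    { exact := ShortComplex.exact_of_g_is_cokernel _ (Limits.cokernelIsCokernel _) },
    isFlasqueMod_of_injective _, rfl⟩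

theorem toSheaf_map_comp_smul {T : Scheme.{u}} {F G : T.Modules} (φ : F ⟶ G) (r : Coh.Γtop T) :
    (SheafOfModules.toSheaf T.ringCatSheaf).map φ ≫ Coh.smulAb G r =
      Coh.smulAb F r ≫ (SheafOfModules.toSheaf T.ringCatSheaf).map φ := by
  ext U m
  change (Coh.smulAb G r).hom.app U ((φ.val.app U).hom m) =
    (φ.val.app U).hom ((Coh.smulAb F r).hom.app U m)
  rw [Coh.smulAb_app, Coh.smulAb_app]
  exact ((φ.val.app U).hom.map_smul (Coh.resTop T U r) m).symm

theorem smulAb_restrict_top (f : X ⟶ Y) (V : Y.Opens) (a : Γ(Y, V)) (F : X.Modules)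
    (s : Γ(F, f ⁻¹ᵁ V)) :
    (Coh.smulAb (F.restrict (f ⁻¹ᵁ V).ι) (rhoV f V a)).hom.app (op ⊤)
        (F.presheaf.map (eqToHom (f ⁻¹ᵁ V).ι_image_top).op s) =
      F.presheaf.map (eqToHom (f ⁻¹ᵁ V).ι_image_top).op (f.app V a • s) := by
  refine (Coh.smulAb_app _ _ _ _).trans (Eq.trans ?_ (map_smul F _ _ _).symm)
  have h1 : Coh.resTop ((f ⁻¹ᵁ V : X.Opens) : Scheme.{u}) (op ⊤) (rhoV f V a) = rhoV f V a :=
    congr($(((f ⁻¹ᵁ V : X.Opens) : Scheme.{u}).ringCatSheaf.obj.map_id (op ⊤)) (rhoV f V a))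
  rw [h1]
  refine congrArg (fun c : Γ(X, (f ⁻¹ᵁ V).ι ''ᵁ ⊤) => c • F.presheaf.map (eqToHom (f ⁻¹ᵁ V).ι_image_top).op s) ?_
  show ((f ⁻¹ᵁ V).ι.appIso ⊤).inv.hom (rhoV f V a) = _
  simp [rhoV, Scheme.Hom.appIso_inv_appLE, Scheme.Opens.ι_appLE, Scheme.Opens.ι_appIso]
  rfl

section SectCmp

variable {f : X ⟶ Y} [HasInjectiveResolutions X.Modules] {Δ : RDer.DerivedLES (pushforward f)}
  (E : CohCmp.SectCmp f Δ)

/-- The comparison commutes with restriction. -/
theorem ε_resLE {V V' : Y.Opens} (h : V' ≤ V) (p : ℕ) : ∀ (F : X.Modules) (x : Coh.HHon X F (f ⁻¹ᵁ V) p),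
    E.ε V' F p (CohPull.resLE F (f.preimage_mono h) p x) =
      ((Coh.Rpush f p).obj F).presheaf.map (homOfLE h).op (E.ε V F p x) := by
  have := SpObjSS.enoughInjectives_of_hasInjectiveResolutions (C := X.Modules)
  induction p with
  | zero =>
    intro F x
    obtain ⟨s, rfl⟩ := (CohPull.sectH0 F (f ⁻¹ᵁ V)).surjective x
    rw [resLE_sectH0, E.zero, E.zero]
    exact map_app_comm ((pushforward f).toRightDerivedZero.app F) (homOfLE h) s
  | succ n ih =>
    intro F x
    obtain ⟨S, hS, hI, rfl⟩ := exists_pres F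
    obtain ⟨y, rfl⟩ := extδ_surjective _ (toAbOn_shortExact (f ⁻¹ᵁ V) hS) hI n x
    rw [resLE_extδ _ _ (toAbOn_shortExact (f ⁻¹ᵁ V') hS), E.delta V' S hS, E.delta V S hS, ih S.X₃ y]
    exact map_app_comm (Δ.δ S hS n (n + 1) rfl) (homOfLE h) _

/-- The comparison is linear over the functions on the base. -/
theorem ε_smul (V : Y.Opens) (a : Γ(Y, V)) (p : ℕ) : ∀ (F : X.Modules) (x : Coh.HHon X F (f ⁻¹ᵁ V) p),
    E.ε V F p (Sheaf.H.map (Coh.smulAb (F.restrict (f ⁻¹ᵁ V).ι) (rhoV f V a)) p x) =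
      a • E.ε V F p x := by
  have := SpObjSS.enoughInjectives_of_hasInjectiveResolutions (C := X.Modules)
  induction p with
  | zero =>
    intro F x
    obtain ⟨s, rfl⟩ := (CohPull.sectH0 F (f ⁻¹ᵁ V)).surjective x
    have hs : Sheaf.H.map (Coh.smulAb (F.restrict (f ⁻¹ᵁ V).ι) (rhoV f V a)) 0
        (CohPull.sectH0 F (f ⁻¹ᵁ V) s) =
        CohPull.sectH0 F (f ⁻¹ᵁ V) ((f.app V a) • s) := by
      apply (Sheaf.H.equiv₀ (Coh.toAb (F.restrict (f ⁻¹ᵁ V).ι)) isTerminalTop).injective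
      rw [← Sheaf.H.equiv₀_naturality]
      erw [AddEquiv.apply_symm_apply, AddEquiv.apply_symm_apply]
      exact smulAb_restrict_top f V a F s
    rw [hs, E.zero, E.zero]
    exact Hom.app_smul ((pushforward f).toRightDerivedZero.app F) a s
  | succ n ih =>
    intro F x
    obtain ⟨S, hS, hI, rfl⟩ := exists_pres F
    have hA := toAbOn_shortExact (f ⁻¹ᵁ V) hS
    obtain ⟨y, rfl⟩ := extδ_surjective _ hA hI n x
    let φ : S.map (CohCmp.toAbOn X (f ⁻¹ᵁ V)) ⟶ S.map (CohCmp.toAbOn X (f ⁻¹ᵁ V)) :=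
      { τ₁ := Coh.smulAb (S.X₁.restrict (f ⁻¹ᵁ V).ι) (rhoV f V a)
        τ₂ := Coh.smulAb (S.X₂.restrict (f ⁻¹ᵁ V).ι) (rhoV f V a)
        τ₃ := Coh.smulAb (S.X₃.restrict (f ⁻¹ᵁ V).ι) (rhoV f V a)
        comm₁₂ := (toSheaf_map_comp_smul ((restrictFunctor (f ⁻¹ᵁ V).ι).map S.f) _).symm
        comm₂₃ := (toSheaf_map_comp_smul ((restrictFunctor (f ⁻¹ᵁ V).ι).map S.g) _).symm }
    rw [E.delta V S hS hA]
    have hn : Sheaf.H.map φ.τ₁ (n + 1) (CohCmp.extδ hA n y) = CohCmp.extδ hA n (Sheaf.H.map φ.τ₃ n y) :=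
      Ab.connecting_naturality hA hA φ n y
    refine (congrArg (E.ε V S.X₁ (n + 1)) hn).trans ((E.delta V S hS hA n _).trans ?_)
    exact (congrArg ((Δ.δ S hS n (n + 1) rfl).app V) (ih S.X₃ y)).trans
      (Hom.app_smul (Δ.δ S hS n (n + 1) rfl) a _)

end SectCmp

end Groth.Agent.CohH33
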