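import Groth.Agent.CohH33.PushEdge
import Groth.Agent.QCoh.TensorA
import Groth.Agent.QCoh.FlatBC
import Groth.Agent.QCoh.ModelGamma
import Mathlib.Topology.Sheaves.SheafCondition.Sites

/-!
# Pullback of cohomology classes along an affine base change, through `M ↦ H^p(X, F ⊗ M)`
-/

universe u

set_option backward.isDefEq.respectTransparency.types false
set_option maxHeartbeats 800000
set_option linter.style.haveILetI false

open CategoryTheory AlgebraicGeometry AlgebraicGeometry.Scheme.Modules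
open TopologicalSpace Opposite
open Groth.Agent.QCoh
open scoped TensorProduct

namespace Groth.Agent.CohH33

theorem range_affineOpens (X : Scheme.{u}) :
    Opens.IsBasis (Set.range fun W : X.affineOpens => (W : X.Opens)) := by
  rw [show Set.range (fun W : X.affineOpens => (W : X.Opens)) = X.affineOpens from Subtype.range_coe]
  exact X.isBasis_affineOpens

/-- Isomorphisms of sheaves give bijections on cohomology. -/
noncomputable def hIso {T : TopCat.{u}} {F G : CohTop.Ab T} (φ : F ⟶ G) [IsIso φ] (p : ℕ) :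
    Sheaf.H F p ≃+ Sheaf.H G p :=
  ((Sheaf.functorH (Opens.grothendieckTopology T) p).mapIso (asIso φ)).addCommGroupIsoToAddEquiv

theorem hIso_apply {T : TopCat.{u}} {F G : CohTop.Ab T} (φ : F ⟶ G) [IsIso φ] (p : ℕ)
    (x : Sheaf.H F p) : hIso φ p x = Sheaf.H.map φ p x :=
  rfl

variable {A B : Type u} [CommRing A] [CommRing B] [Algebra A B] {X X' : Scheme.{u}}
  [X.Over (Spec (CommRingCat.of A))] (k : X' ⟶ X) (pB : X' ⟶ Spec (CommRingCat.of B))


variable (h : IsPullback k pB (X ↘ Spec (CommRingCat.of A)) (Spec.map (CommRingCat.ofHom (algebraMap A B)))) (F : X.Modules)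
  (hF : Coh.IsQCoh F)

/-- Multiplication by a global function on the sections over an open. -/
noncomputable abbrev bsmul (N : X'.Modules) (U : X'.Opens) (b : B) (t : Γ(N, U)) : Γ(N, U) :=
  X'.presheaf.map (homOfLE (le_top : U ≤ ⊤)).op (Coh.toGlobal pB b) • t

include h hF in
theorem exists_kappaSec (W : X.affineOpens) :
    ∃ θ : Γ(tA F (ModuleCat.of A B), W.1) →+ Γ((pullback k).obj F, k ⁻¹ᵁ W.1),
      Function.Bijective θ ∧ ∀ (s : Γ(F, W.1)) (b : B),
        θ (tauA F (ModuleCat.of A B) W.1 (letI := secModule (Coh.toGlobal (X ↘ Spec (CommRingCat.of A))) F W.1; s ⊗ₜ[A] b)) =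
          bsmul pB _ _ b (((pullbackPushforwardAdjunction k).unit.app F).app W.1 s) := by
  letI := secModule (Coh.toGlobal (X ↘ Spec (CommRingCat.of A))) F W.1
  letI := secModule (Coh.toGlobal (X ↘ Spec (CommRingCat.of A))) (tA F (ModuleCat.of A B)) W.1
  letI := secModule (Coh.toGlobal pB) ((pullback k).obj F) (k ⁻¹ᵁ W.1)
  letI := secModule ((Coh.toGlobal pB).comp (algebraMap A B)) ((pullback k).obj F) (k ⁻¹ᵁ W.1)
  haveI : IsScalarTower A B Γ((pullback k).obj F, k ⁻¹ᵁ W.1) := .of_algebraMap_smul fun _ _ => rfl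
  let η : F ⟶ (pushforward k).obj ((pullback k).obj F) := (pullbackPushforwardAdjunction k).unit.app F
  have hbc₀ : IsAffineBC k (Coh.toGlobal (X ↘ Spec (CommRingCat.of A))) (Coh.toGlobal pB)
      (toGlobal_comm _ pB k h.w) η := isAffineBC_of_isPullback h hF
  have hbc := hbc₀ W.1 W.2
  let e : Γ(F, W.1) ⊗[A] B ≃ₗ[A] Γ((pullback k).obj F, k ⁻¹ᵁ W.1) :=
    (TensorProduct.comm A Γ(F, W.1) B).trans (hbc.equiv.restrictScalars A)
  let t : Γ(F, W.1) ⊗[A] B ≃ₗ[A] Γ(tA F (ModuleCat.of A B), W.1) :=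
    LinearEquiv.ofBijective (tauA F (ModuleCat.of A B) W.1) (bijective_tauA F hF _ W.2)
  refine ⟨(t.symm.trans e).toAddEquiv.toAddMonoidHom, (t.symm.trans e).bijective, fun s b => ?_⟩
  show e (t.symm (t (s ⊗ₜ[A] b))) = _
  rw [t.symm_apply_apply]
  show hbc.equiv (b ⊗ₜ[A] s) = _
  rw [IsBaseChange.equiv_tmul]
  refine congrArg (fun z : Γ((pullback k).obj F, k ⁻¹ᵁ W.1) => X'.presheaf.map (homOfLE (le_top : k ⁻¹ᵁ W.1 ≤ ⊤)).op (Coh.toGlobal pB b) • z) ?_
  exact congr($(((pullback k).obj F).presheaf.map_id _)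
    (((pullbackPushforwardAdjunction k).unit.app F).app W.1 s))

include h hF in
/-- `F ⊗ B` is the direct image of the inverse image. -/
theorem exists_kappa :
    ∃ κ : Coh.toAb (tA F (ModuleCat.of A B)) ⟶
        (CohTop.push k.base).obj (Coh.toAb ((pullback k).obj F)),
      IsIso κ ∧ ∀ (W : X.affineOpens) (s : Γ(F, W.1)) (b : B),
        κ.hom.app (op W.1)
            (tauA F (ModuleCat.of A B) W.1 (letI := secModule (Coh.toGlobal (X ↘ Spec (CommRingCat.of A))) F W.1; s ⊗ₜ[A] b)) =
          bsmul pB _ _ b (((pullbackPushforwardAdjunction k).unit.app F).app W.1 s) := by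
  choose θ hθ hspec using exists_kappaSec k pB h F hF
  let G := Coh.toAb (tA F (ModuleCat.of A B))
  let G' : TopCat.Sheaf AddCommGrpCat.{u} X.toPresheafedSpace.carrier :=
    (CohTop.push k.base).obj (Coh.toAb ((pullback k).obj F))
  let ι : X.affineOpens → Opens X.toPresheafedSpace.carrier := fun W => W.1
  let α : (inducedFunctor ι).op ⋙ G.obj ⟶ (inducedFunctor ι).op ⋙ G'.1 :=
    { app := fun W => AddCommGrpCat.ofHom (θ W.unop)
      naturality := fun W₁ W₂ i => by
        refine AddCommGrpCat.ext fun y => ?_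
        letI := secModule (Coh.toGlobal (X ↘ Spec (CommRingCat.of A))) F W₁.unop.1
        letI := secModule (Coh.toGlobal (X ↘ Spec (CommRingCat.of A))) F W₂.unop.1
        letI := secModule (Coh.toGlobal (X ↘ Spec (CommRingCat.of A))) (tA F (ModuleCat.of A B)) W₁.unop.1
        have hi : W₂.unop.1 ≤ W₁.unop.1 := ((inducedFunctor ι).map i.unop).le
        show θ W₂.unop ((tA F (ModuleCat.of A B)).presheaf.map (homOfLE hi).op y) =
          ((pullback k).obj F).presheaf.map ((Opens.map k.base).map (homOfLE hi)).op (θ W₁.unop y)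
        obtain ⟨z, rfl⟩ := (bijective_tauA F hF _ W₁.unop.2).2 y
        induction z using TensorProduct.induction_on with
        | zero => simp only [map_zero]
        | add u v hu hv => simp only [map_add, hu, hv]
        | tmul s b =>
          rw [map_tauA, hspec, hspec, map_smul]
          refine congrArg₂ (fun c t => c • t) ?_ ?_
          · exact (congr($(X'.presheaf.map_comp _ _) (Coh.toGlobal pB b))).trans rfl
          · exact map_app_comm ((pullbackPushforwardAdjunction k).unit.app F) (homOfLE hi) s }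
  let κ : G ⟶ G' := ⟨TopCat.Sheaf.restrictHomEquivHom G.obj G' (range_affineOpens X) α⟩
  have hκ : ∀ (W : X.affineOpens) (y : G.obj.obj (op W.1)), κ.hom.app (op W.1) y = θ W y := fun W y =>
    congrArg (fun q => q y) (TopCat.Sheaf.extend_hom_app G.obj G' (range_affineOpens X) α W)
  exact ⟨κ, TopCat.Sheaf.isIso_iff_isIso_basis (range_affineOpens X) fun W =>
    (ConcreteCategory.isIso_iff_bijective _).2 (by
      rw [show ⇑(ConcreteCategory.hom (κ.hom.app (op W.1))) = θ W from funext (hκ W)]; exact hθ W),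
    fun W s b => (hκ W _).trans (hspec W s b)⟩

/-- The map `s ↦ s ⊗ 1`. -/
noncomputable def iotaA : Coh.toAb F ⟶ Coh.toAb (tA F (ModuleCat.of A A)) :=
  ⟨{ app := fun W => AddCommGrpCat.ofHom
      (letI := secModule (Coh.toGlobal (X ↘ Spec (CommRingCat.of A))) F W.unop
       letI := secModule (Coh.toGlobal (X ↘ Spec (CommRingCat.of A))) (tA F (ModuleCat.of A A)) W.unop
       ((tauA F (ModuleCat.of A A) W.unop).comp
         (TensorProduct.rid A Γ(F, W.unop)).symm.toLinearMap).toAddMonoidHom)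
     naturality := fun W₁ W₂ i => by
      refine AddCommGrpCat.ext fun s => ?_
      exact (map_tauA F (ModuleCat.of A A) i.unop s (1 : A)).symm }⟩

theorem iotaA_app (W : X.Opens) (s : Γ(F, W)) :
    (iotaA F).hom.app (op W) s =
      tauA F (ModuleCat.of A A) W (letI := secModule (Coh.toGlobal (X ↘ Spec (CommRingCat.of A))) F W; s ⊗ₜ[A] (1 : A)) :=
  rfl

include hF in
theorem isIso_iotaA : IsIso (iotaA (A := A) F) :=
  TopCat.Sheaf.isIso_iff_isIso_basis (range_affineOpens X) fun W =>
    (ConcreteCategory.isIso_iff_bijective _).2 (by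
      letI := secModule (Coh.toGlobal (X ↘ Spec (CommRingCat.of A))) F W.1
      exact (bijective_tauA F hF (ModuleCat.of A A) W.2).comp (TensorProduct.rid A Γ(F, W.1)).symm.bijective)

theorem smulAb_iotaA (a : A) :
    Coh.smulAb F (Coh.toGlobal (X ↘ Spec (CommRingCat.of A)) a) ≫ iotaA F =
      iotaA F ≫ Coh.smulAb (tA F (ModuleCat.of A A)) (Coh.toGlobal (X ↘ Spec (CommRingCat.of A)) a) := by
  refine InducedCategory.hom_ext ?_
  refine NatTrans.ext (funext fun W => AddCommGrpCat.ext fun s => ?_)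
  letI := secModule (Coh.toGlobal (X ↘ Spec (CommRingCat.of A))) F W.unop
  letI := secModule (Coh.toGlobal (X ↘ Spec (CommRingCat.of A))) (tA F (ModuleCat.of A A)) W.unop
  show tauA F (ModuleCat.of A A) W.unop ((a • (show Γ(F, W.unop) from s)) ⊗ₜ[A] (1 : A)) =
    a • tauA F (ModuleCat.of A A) W.unop (s ⊗ₜ[A] (1 : A))
  rw [← _root_.map_smul, TensorProduct.smul_tmul']

/-- The map of `A`-modules `A → M` sending `1` to `m`. -/
noncomputable abbrev lamA (M : ModuleCat.{u} A) (m : M) : ModuleCat.of A A ⟶ M :=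
  ModuleCat.ofHom ((LinearMap.ringLmapEquivSelf A A M).symm m)

include h hF in
/-- The pullback of cohomology classes through `M ↦ H^p(X, F ⊗ M)`. -/
theorem exists_pullMod_model (p : ℕ) :
    ∃ (Φ₀ : Coh.HH X F p ≃+ Coh.HH X (tA F (ModuleCat.of A A)) p)
      (Φ : Coh.HH X (tA F (ModuleCat.of A B)) p ≃+ Coh.HH X' ((pullback k).obj F) p),
      (∀ (a : A) x, Φ₀ (Sheaf.H.map (Coh.smulAb F (Coh.toGlobal (X ↘ Spec (CommRingCat.of A)) a)) p x) =
        Sheaf.H.map (Coh.smulAb (tA F (ModuleCat.of A A)) (Coh.toGlobal (X ↘ Spec (CommRingCat.of A)) a)) p (Φ₀ x)) ∧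
      ∀ (b : B) x,
        Φ (CohPull.mapH ((CohIII.tensorAFunctor A F).map (lamA (ModuleCat.of A B) b)) p (Φ₀ x)) =
          Sheaf.H.map (Coh.smulAb ((pullback k).obj F) (Coh.toGlobal pB b)) p (CohPull.pullMod k F p x) := by
  obtain ⟨κ, hκ, hspec⟩ := exists_kappa k pB h F hF
  haveI := isIso_iotaA (A := A) F hF
  haveI : IsAffineHom k := MorphismProperty.of_isPullback h.flip inferInstance
  have hb := bijective_pushEdge_of_isAffineHom k (isQCoh_pullback k hF) p 0
  let N := (pullback k).obj F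
  refine ⟨hIso (iotaA F) p, (hIso κ p).trans (AddEquiv.ofBijective _ hb), fun a x => ?_, fun b x => ?_⟩
  · rw [hIso_apply, hIso_apply, ← Sheaf.H.map_comp_apply, ← Sheaf.H.map_comp_apply, smulAb_iotaA]
  · let T : Coh.toAb (tA F (ModuleCat.of A A)) ⟶ Coh.toAb (tA F (ModuleCat.of A B)) :=
      (SheafOfModules.toSheaf X.ringCatSheaf).map
        ((CohIII.tensorAFunctor A F).map (lamA (ModuleCat.of A B) b))
    show CohPull.pushEdge k N p (Sheaf.H.map κ p (Sheaf.H.map T p (Sheaf.H.map (iotaA F) p x))) = _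
    rw [← Sheaf.H.map_comp_apply, ← Sheaf.H.map_comp_apply, pushEdge_eq_cpull]
    refine (cpull_map _ _ _ p x).trans ?_
    refine Eq.trans ?_ (congrArg _ (congr($(pullMod_eq_cpull k F p) x))).symm
    refine Eq.trans ?_ (map_cpull _ _ _ p x).symm
    refine congrArg (fun η => cpull k.base η p x) ?_
    refine InducedCategory.hom_ext ?_
    refine TopCat.Sheaf.hom_ext (F := (Coh.toAb F).obj)
      (F' := (CohTop.push k.base).obj (Coh.toAb N)) (range_affineOpens X) fun W => ?_
    refine AddCommGrpCat.ext fun s => ?_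
    letI := secModule (Coh.toGlobal (X ↘ Spec (CommRingCat.of A))) F W.1
    show κ.hom.app (op W.1) (((CohIII.tensorAFunctor A F).map (lamA (ModuleCat.of A B) b)).app W.1
      (tauA F (ModuleCat.of A A) W.1 (s ⊗ₜ[A] (1 : A)))) = _
    rw [tauA_naturality, show (lamA (ModuleCat.of A B) b).hom (1 : A) = b from one_smul A b, hspec]
    rfl

end Groth.Agent.CohH33
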